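import Mathlib
import Groth.Prelude.Def_SGA3b
import Groth.Agent.Lib.Helper6.MultType.Mono

/-!
# The grading of a Hopf algebra induced by a bialgebra map to a group algebra (helper6)

For a bialgebra map `φ : C → A[M]` the algebra `C` is a comodule over `A[M]`, hence graded by `M`;
`Pn φ n` is the projection on the degree `n` part.  The kernel of `φ` is a graded ideal, so if
`c` kills the kernel, then so does its degree one part `Pn φ 1 c`.
-/

set_option autoImplicit false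
set_option linter.unusedSectionVars false
set_option linter.unusedVariables false
set_option linter.unusedSimpArgs false
set_option linter.style.haveILetI false
set_option linter.overlappingInstances false
set_option maxHeartbeats 800000
set_option synthInstance.maxHeartbeats 400000

universe u
open TensorProduct SGA3b Coalgebra
open Groth.Agent.Lib.Helper6.MultType

namespace Groth.Agent.Lib.Helper6.FibConn

section Grading

variable {A : Type u} [CommRing A] {M : Type u} [CommGroup M]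
variable {C : Type u} [CommRing C] [HopfAlgebra A C]
variable (φ : C →ₐc[A] MonoidAlgebra A M)

/-- The coaction `C → C ⊗ A[M]`, as an algebra map. -/
noncomputable def coactAlg : C →ₐ[A] C ⊗[A] MonoidAlgebra A M :=
  (Algebra.TensorProduct.map (AlgHom.id A C) (φ : C →ₐ[A] MonoidAlgebra A M)).comp
    (Bialgebra.comulAlgHom A C)

lemma coactAlg_eq_sum {ι : Type*} (x : C) (𝓡 : Coalgebra.Repr A x ι) :
    coactAlg φ x = ∑ i ∈ 𝓡.index, 𝓡.left i ⊗ₜ[A] φ (𝓡.right i) := by
  show (Algebra.TensorProduct.map (AlgHom.id A C) (φ : C →ₐ[A] MonoidAlgebra A M))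
    (comul x) = _
  rw [← 𝓡.eq, map_sum]
  rfl

variable (A C) in
/-- `z ⊗ b ↦ b_n • z`. -/
noncomputable def Lam (n : M) : C ⊗[A] MonoidAlgebra A M →ₗ[A] C :=
  (TensorProduct.rid A C).toLinearMap ∘ₗ (coeffL A M n).lTensor C

lemma Lam_tmul (n : M) (z : C) (b : MonoidAlgebra A M) :
    Lam A C n (z ⊗ₜ[A] b) = b.coeff n • z := by
  simp [Lam]

/-- The projection on the degree `n` part. -/
noncomputable def Pn (n : M) : C →ₗ[A] C := Lam A C n ∘ₗ (coactAlg φ).toLinearMap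

lemma Pn_apply (n : M) (x : C) : Pn φ n x = Lam A C n (coactAlg φ x) := rfl

lemma Pn_eq_sum {ι : Type*} (n : M) (x : C) (𝓡 : Coalgebra.Repr A x ι) :
    Pn φ n x = ∑ i ∈ 𝓡.index, (φ (𝓡.right i)).coeff n • 𝓡.left i := by
  rw [Pn_apply, coactAlg_eq_sum φ x 𝓡, map_sum]
  refine Finset.sum_congr rfl fun i _ => ?_
  rw [Lam_tmul]

lemma map_Pn (n : M) (x : C) : φ (Pn φ n x) = MonoidAlgebra.single n ((φ x).coeff n) := by
  have h1 : rho (R := A) n (comul (φ x)) = MonoidAlgebra.single n ((φ x).coeff n) :=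
    rho_comul n _
  have h2 : comul (R := A) (φ x) =
      ∑ i ∈ (ℛ A x).index, φ ((ℛ A x).left i) ⊗ₜ[A] φ ((ℛ A x).right i) := by
    rw [← CoalgHomClass.map_comp_comul_apply, ← (ℛ A x).eq, map_sum]
    rfl
  rw [← h1, h2, map_sum, Pn_eq_sum φ n x (ℛ A x), map_sum]
  refine Finset.sum_congr rfl fun i _ => ?_
  rw [rho_tmul, map_smul]

lemma map_Pn_eq_zero (n : M) {y : C} (hy : φ y = 0) : φ (Pn φ n y) = 0 := by
  rw [map_Pn, hy]
  simp

/-- The degree `n` part is homogeneous of degree `n`. -/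
lemma coact_Pn (n : M) (x : C) :
    coactAlg φ (Pn φ n x) = Pn φ n x ⊗ₜ[A] MonoidAlgebra.single n (1 : A) := by
  classical
  obtain ⟨Gn, hGn⟩ : ∃ Gn : C ⊗[A] C →ₗ[A] MonoidAlgebra A M,
      ∀ z w, Gn (z ⊗ₜ[A] w) = (φ w).coeff n • φ z := by
    refine ⟨(TensorProduct.rid A (MonoidAlgebra A M)).toLinearMap ∘ₗ
      TensorProduct.map (φ : C →ₐ[A] MonoidAlgebra A M).toLinearMap
        (coeffL A M n ∘ₗ (φ : C →ₐ[A] MonoidAlgebra A M).toLinearMap), ?_⟩
    intro z w
    show (TensorProduct.rid A (MonoidAlgebra A M)) (TensorProduct.map _ _ (z ⊗ₜ[A] w)) = _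
    rw [TensorProduct.map_tmul, TensorProduct.rid_tmul]
    rfl
  have 𝓡 : Coalgebra.Repr A x (C × C) := ℛ A x
  have 𝓡₁ : ∀ i, Coalgebra.Repr A (𝓡.left i) (C × C) := fun i => ℛ A _
  have 𝓡₂ : ∀ i, Coalgebra.Repr A (𝓡.right i) (C × C) := fun i => ℛ A _
  have key := Coalgebra.sum_tmul_tmul_eq 𝓡 𝓡₁ 𝓡₂
  have key2 : ∑ i ∈ 𝓡.index, ∑ j ∈ (𝓡₁ i).index,
      (𝓡₁ i).left j ⊗ₜ[A] ((φ (𝓡.right i)).coeff n • φ ((𝓡₁ i).right j)) =
      ∑ i ∈ 𝓡.index, ∑ j ∈ (𝓡₂ i).index,
        𝓡.left i ⊗ₜ[A] ((φ ((𝓡₂ i).right j)).coeff n • φ ((𝓡₂ i).left j)) := by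
    simpa only [map_sum, TensorProduct.map_tmul, LinearMap.id_apply, hGn] using
      congrArg (TensorProduct.map (LinearMap.id : C →ₗ[A] C) Gn) key
  have hL : coactAlg φ (Pn φ n x) = ∑ i ∈ 𝓡.index, ∑ j ∈ (𝓡₁ i).index,
      (𝓡₁ i).left j ⊗ₜ[A] ((φ (𝓡.right i)).coeff n • φ ((𝓡₁ i).right j)) := by
    rw [Pn_eq_sum φ n x 𝓡, map_sum]
    refine Finset.sum_congr rfl fun i _ => ?_
    rw [map_smul, coactAlg_eq_sum φ _ (𝓡₁ i), Finset.smul_sum]
    refine Finset.sum_congr rfl fun j _ => ?_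
    rw [TensorProduct.tmul_smul]
  have hR : ∑ i ∈ 𝓡.index, ∑ j ∈ (𝓡₂ i).index,
      𝓡.left i ⊗ₜ[A] ((φ ((𝓡₂ i).right j)).coeff n • φ ((𝓡₂ i).left j)) =
      Pn φ n x ⊗ₜ[A] MonoidAlgebra.single n (1 : A) := by
    rw [Pn_eq_sum φ n x 𝓡, TensorProduct.sum_tmul]
    refine Finset.sum_congr rfl fun i _ => ?_
    rw [← TensorProduct.tmul_sum]
    have h3 : ∑ j ∈ (𝓡₂ i).index, (φ ((𝓡₂ i).right j)).coeff n • φ ((𝓡₂ i).left j) =
        MonoidAlgebra.single n ((φ (𝓡.right i)).coeff n) := by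
      rw [← map_Pn φ n (𝓡.right i), Pn_eq_sum φ n _ (𝓡₂ i), map_sum]
      refine Finset.sum_congr rfl fun j _ => ?_
      rw [map_smul]
    rw [h3, TensorProduct.smul_tmul, MonoidAlgebra.smul_single, smul_eq_mul, mul_one]
  exact (hL.trans key2).trans hR

lemma Lam_mul_single (n : M) (t : C ⊗[A] MonoidAlgebra A M) (z : C) :
    Lam A C n (t * (z ⊗ₜ[A] MonoidAlgebra.single n (1 : A))) = Lam A C 1 t * z := by
  induction t using TensorProduct.induction_on with
  | zero => rw [zero_mul, map_zero, map_zero, zero_mul]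
  | tmul x b =>
    rw [Algebra.TensorProduct.tmul_mul_tmul, Lam_tmul, Lam_tmul, smul_mul_assoc,
      MonoidAlgebra.coeff_mul_single_apply, mul_inv_cancel, mul_one]
  | add t t' h h' => rw [add_mul, map_add, map_add, add_mul, h, h']

lemma Pn_mul_Pn (n : M) (x y : C) : Pn φ n (x * Pn φ n y) = Pn φ 1 x * Pn φ n y := by
  rw [Pn_apply, map_mul, coact_Pn, Lam_mul_single, ← Pn_apply]

lemma counit_eq_coeff_sum (b : MonoidAlgebra A M) :
    Coalgebra.counit (R := A) b = b.coeff.sum fun _ r => r := by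
  classical
  induction b using MonoidAlgebra.induction_linear with
  | zero => simp
  | add x y hx hy =>
    rw [map_add, hx, hy, MonoidAlgebra.coeff_add,
      Finsupp.sum_add_index' (fun _ => rfl) (fun _ _ _ => rfl)]
  | single m r =>
    rw [MonoidAlgebra.counit_single, MonoidAlgebra.coeff_single, Finsupp.sum_single_index rfl]
    rfl

lemma counit_eq_sum (b : MonoidAlgebra A M) (S : Finset M) (hS : b.coeff.support ⊆ S) :
    Coalgebra.counit (R := A) b = ∑ n ∈ S, b.coeff n := by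
  rw [counit_eq_coeff_sum, Finsupp.sum_of_support_subset _ hS _ (fun _ _ => rfl)]

lemma sum_counit_right_smul {ι : Type*} (x : C) (𝓡 : Coalgebra.Repr A x ι) :
    ∑ i ∈ 𝓡.index, Coalgebra.counit (R := A) (𝓡.right i) • 𝓡.left i = x := by
  have h := congrArg (TensorProduct.rid A C) (Coalgebra.sum_tmul_counit_eq 𝓡)
  simpa only [map_sum, TensorProduct.rid_tmul, one_smul] using h

/-- Every element is the sum of its homogeneous parts. -/
lemma exists_sum_Pn (x : C) : ∃ S : Finset M, ∑ n ∈ S, Pn φ n x = x := by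
  classical
  have 𝓡 : Coalgebra.Repr A x (C × C) := ℛ A x
  refine ⟨𝓡.index.biUnion fun i => (φ (𝓡.right i)).coeff.support, ?_⟩
  have h1 : ∀ n, Pn φ n x = ∑ i ∈ 𝓡.index, (φ (𝓡.right i)).coeff n • 𝓡.left i :=
    fun n => Pn_eq_sum φ n x 𝓡
  rw [Finset.sum_congr rfl fun n _ => h1 n, Finset.sum_comm]
  have h2 : ∀ i ∈ 𝓡.index,
      ∑ n ∈ 𝓡.index.biUnion fun i => (φ (𝓡.right i)).coeff.support,
        (φ (𝓡.right i)).coeff n • 𝓡.left i =
      Coalgebra.counit (R := A) (𝓡.right i) • 𝓡.left i := by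
    intro i hi
    rw [← Finset.sum_smul, ← counit_eq_sum (φ (𝓡.right i)) _
      (Finset.subset_biUnion_of_mem (fun i => (φ (𝓡.right i)).coeff.support) hi),
      CoalgHomClass.counit_comp_apply]
  rw [Finset.sum_congr rfl h2]
  exact sum_counit_right_smul x 𝓡

/-- If `c` kills the kernel of `φ`, then so does its degree one part. -/
theorem Pn_one_mul_eq_zero {c : C} (hc : ∀ y, φ y = 0 → c * y = 0) {y : C} (hy : φ y = 0) :
    Pn φ 1 c * y = 0 := by
  obtain ⟨S, hS⟩ := exists_sum_Pn φ y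
  rw [← hS, Finset.mul_sum]
  refine Finset.sum_eq_zero fun n _ => ?_
  rw [← Pn_mul_Pn, hc _ (map_Pn_eq_zero φ n hy), map_zero]

end Grading

end Groth.Agent.Lib.Helper6.FibConn
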