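import Mathlib
import Groth.Prelude.Def_SGA3b
import Groth.Agent.Lib.Helper6.IsoJac.IJ2
import Groth.Agent.Lib.Helper6.FibConn.FC1

/-!
# A group over a complete base which is diagonalisable modulo `I` (helper6)

Let `A` be Noetherian and `I`-adically complete, `C` a Hopf algebra of finite type over `A`, flat
near `V(I C)`, with `C / I C` diagonalisable of type `M`.  Then there is a surjective bialgebra map
`φ : C → A[M]` whose kernel is generated by an idempotent.
-/

set_option autoImplicit false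
set_option linter.unusedSectionVars false
set_option linter.unusedVariables false
set_option linter.unusedSimpArgs false
set_option linter.style.haveILetI false
set_option linter.overlappingInstances false
set_option maxHeartbeats 800000
set_option synthInstance.maxHeartbeats 400000

universe u
open TensorProduct SGA3b Coalgebra
open Groth.Agent.Lib.Helper6.MultType Groth.Agent.Lib.Helper6.Lift
open Groth.Agent.Lib.Helper6.IsoNil Groth.Agent.Lib.Helper6.QIso Groth.Agent.Lib.Helper6.IsoJac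

namespace Groth.Agent.Lib.Helper6.FibConn

section Gen

variable {A : Type u} [CommRing A] (I : Ideal A)

lemma linear_mem_of_mem_smul_top {N : Type u} [AddCommGroup N] [Module A N] (f : N →ₗ[A] A)
    {b : N} (hb : b ∈ I • (⊤ : Submodule A N)) : f b ∈ I := by
  refine Submodule.smul_induction_on (p := fun b => f b ∈ I) hb ?_ ?_
  · intro r hr x _
    show f (r • x) ∈ I
    rw [map_smul, smul_eq_mul]
    exact I.mul_mem_right _ hr
  · intro x y hx hy
    show f (x + y) ∈ I
    rw [map_add]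
    exact I.add_mem hx hy

lemma isUnit_of_sub_one_mem_jac {u : A} (hI : I ≤ Ideal.jacobson ⊥) (hu : u - 1 ∈ I) :
    IsUnit u := by
  have h := Ideal.mem_jacobson_bot.mp (hI hu) 1
  have e : (u - 1) * 1 + 1 = u := by ring
  rwa [e] at h

end Gen

section Idem

variable {A : Type u} [CommRing A] {M : Type u} [CommGroup M]
variable {C : Type u} [CommRing C] [HopfAlgebra A C]
variable (φ : C →ₐc[A] MonoidAlgebra A M)

lemma idem_of_unit_lift {a' : C} (h1 : φ a' = 1) (hK : ∀ y, φ y = 0 → a' * y = 0) :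
    (1 - a') * (1 - a') = 1 - a' ∧ φ (1 - a') = 0 ∧ ∀ y, φ y = 0 → y * (1 - a') = y := by
  have he0 : φ (1 - a') = 0 := by rw [map_sub, map_one, h1, sub_self]
  refine ⟨?_, he0, ?_⟩
  · have h8 := hK _ he0
    have e : (1 - a') * (1 - a') = (1 - a') - a' * (1 - a') := by ring
    rw [e, h8, sub_zero]
  · intro y hy
    have h9 := hK y hy
    have e : y * (1 - a') = y - a' * y := by ring
    rw [e, h9, sub_zero]

end Idem

section Main

variable {A : Type u} [CommRing A] [IsNoetherianRing A] (I : Ideal A) [IsAdicComplete I A]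
variable {C : Type u} [CommRing C] [HopfAlgebra A C]

theorem exists_surj_ker_idem (hft : Algebra.FiniteType A C)
    (hfl : ∀ (q : Ideal C) [q.IsPrime], Ideal.map (algebraMap A C) I ≤ q →
      Module.Flat A (Localization.AtPrime q))
    (h0 : IsDiag (A ⧸ I) ((A ⧸ I) ⊗[A] C)) :
    ∃ (M : Type u) (_ : CommGroup M) (φ : C →ₐc[A] MonoidAlgebra A M) (e : C),
      Function.Surjective φ ∧ e * e = e ∧ φ e = 0 ∧ ∀ y, φ y = 0 → y * e = y := by
  classical
  obtain ⟨M, _, ⟨e₀⟩⟩ := id h0
  have hB : IsIsotrivial A (MonoidAlgebra A M) :=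
    ⟨A, inferInstance, inferInstance, inferInstance, inferInstance, inferInstance,
      IsDiag.baseChange ⟨M, inferInstance, ⟨BialgEquiv.refl A _⟩⟩ A⟩
  have hq0 : IsQuasiIsotrivial (A ⧸ I) ((A ⧸ I) ⊗[A] C) := isQuasiIsotrivial_of_isDiag h0
  obtain ⟨st₀, hst₀⟩ : ∃ st₀ : (A ⧸ I) ⊗[A] MonoidAlgebra A M ≃ₐc[A ⧸ I]
      MonoidAlgebra (A ⧸ I) M, st₀ = scalarTensorBialgEquiv A (A ⧸ I) M := ⟨_, rfl⟩
  obtain ⟨φ₀, hφ₀⟩ : ∃ φ₀ : ((A ⧸ I) ⊗[A] C) ≃ₐc[A ⧸ I] ((A ⧸ I) ⊗[A] MonoidAlgebra A M),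
      φ₀ = e₀.trans st₀.symm := ⟨_, rfl⟩
  obtain ⟨φ, hφ⟩ := (Groth.Agent.Lib.Helper6.HomNil.bialgHom_reduction_bijective A I
    (MonoidAlgebra A M) hB C hfl hq0).2 (φ₀ : _ →ₐc[A ⧸ I] _)
  have hφ' : ∀ c : C, φ₀ ((1 : A ⧸ I) ⊗ₜ[A] c) = (1 : A ⧸ I) ⊗ₜ[A] φ c := fun c => hφ c
  have hred : ∀ y : (A ⧸ I) ⊗[A] C, ∃ c : C, (1 : A ⧸ I) ⊗ₜ[A] c = y := by
    intro y
    induction y using TensorProduct.induction_on with
    | zero => exact ⟨0, TensorProduct.tmul_zero _ _⟩
    | tmul a c =>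
      obtain ⟨r, rfl⟩ := Ideal.Quotient.mk_surjective a
      refine ⟨r • c, ?_⟩
      rw [← TensorProduct.smul_tmul, Algebra.smul_def, mul_one]
      rfl
    | add y y' hy hy' =>
      obtain ⟨c, rfl⟩ := hy
      obtain ⟨c', rfl⟩ := hy'
      exact ⟨c + c', TensorProduct.tmul_add _ _ _⟩
  have hcm : ∀ m : M, ∃ c : C, (1 : A ⧸ I) ⊗ₜ[A] c =
      φ₀.symm ((1 : A ⧸ I) ⊗ₜ[A] MonoidAlgebra.single m (1 : A)) := fun m => hred _
  choose cm hcm' using hcm
  have hJ : I ≤ Ideal.jacobson ⊥ := IsAdicComplete.le_jacobson_bot I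
  have h1 : ∀ m, φ (cm m) - MonoidAlgebra.single m (1 : A) ∈
      I • (⊤ : Submodule A (MonoidAlgebra A M)) := by
    intro m
    apply Groth.Agent.Lib.Helper6.FlatDef.mem_smul_top_of_one_tmul I
    rw [TensorProduct.tmul_sub, ← hφ', hcm', φ₀.apply_symm_apply, sub_self]
  have h2 : ∀ m, (φ (cm m)).coeff m - 1 ∈ I := by
    intro m
    have h := linear_mem_of_mem_smul_top I (coeffL A M m) (h1 m)
    rw [map_sub, coeffL_apply, coeffL_apply, MonoidAlgebra.coeff_single,
      Finsupp.single_eq_same] at h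
    exact h
  have h3 : ∀ m, ∃ v : A, v * (φ (cm m)).coeff m = 1 := fun m =>
    (isUnit_of_sub_one_mem_jac I hJ (h2 m)).exists_left_inv
  choose v hv using h3
  have hsm : ∀ m, φ (v m • Pn φ m (cm m)) = MonoidAlgebra.single m (1 : A) := by
    intro m
    rw [map_smul, map_Pn, MonoidAlgebra.smul_single, smul_eq_mul, hv]
  obtain ⟨s, hs⟩ : ∃ s : MonoidAlgebra A M →ₗ[A] C,
      ∀ m r, s (MonoidAlgebra.single m r) = r • (v m • Pn φ m (cm m)) := by
    refine ⟨(Finsupp.linearCombination A fun m => v m • Pn φ m (cm m)) ∘ₗ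
      (MonoidAlgebra.coeffLinearEquiv A).toLinearMap, ?_⟩
    intro m r
    show Finsupp.linearCombination A _ ((MonoidAlgebra.single m r).coeff) = _
    rw [MonoidAlgebra.coeff_single, Finsupp.linearCombination_single]
  have hφs : ∀ b, φ (s b) = b := by
    intro b
    induction b using MonoidAlgebra.induction_linear with
    | zero => rw [map_zero, map_zero]
    | add x y hx hy => rw [map_add, map_add, hx, hy]
    | single m r => rw [hs, map_smul, hsm, MonoidAlgebra.smul_single, smul_eq_mul, mul_one]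
  have hsurj : Function.Surjective φ := fun b => ⟨s b, hφs b⟩
  have hker_mem : ∀ y, φ y = 0 → y ∈ I • (⊤ : Submodule A C) := by
    intro y hy
    apply Groth.Agent.Lib.Helper6.FlatDef.mem_smul_top_of_one_tmul I
    have h4 : φ₀ ((1 : A ⧸ I) ⊗ₜ[A] y) = 0 := by rw [hφ', hy, TensorProduct.tmul_zero]
    have h5 := congrArg φ₀.symm h4
    rwa [φ₀.symm_apply_apply, map_zero] at h5
  obtain ⟨K, hK⟩ : ∃ K : Submodule C C, ∀ y, y ∈ K ↔ φ y = 0 :=
    ⟨RingHom.ker φ, fun y => RingHom.mem_ker⟩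
  haveI : IsNoetherianRing C := Algebra.FiniteType.isNoetherianRing A C
  have hKfg : K.FG := IsNoetherian.noetherian K
  have hdiff : ∀ y, y ∈ I • (⊤ : Submodule A C) →
      y - s (φ y) ∈ (Ideal.map (algebraMap A C) I) • K := by
    intro y hy
    refine Submodule.smul_induction_on
      (p := fun y => y - s (φ y) ∈ (Ideal.map (algebraMap A C) I) • K) hy ?_ ?_
    · intro r hr x _
      show r • x - s (φ (r • x)) ∈ _
      have e1 : r • x - s (φ (r • x)) = algebraMap A C r • (x - s (φ x)) := by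
        rw [map_smul, map_smul, ← smul_sub, algebraMap_smul]
      rw [e1]
      refine Submodule.smul_mem_smul (Ideal.mem_map_of_mem _ hr) ?_
      rw [hK, map_sub, hφs, sub_self]
    · intro x y hx hy
      show (x + y) - s (φ (x + y)) ∈ _
      have e2 : (x + y) - s (φ (x + y)) = (x - s (φ x)) + (y - s (φ y)) := by
        rw [map_add, map_add]
        abel
      rw [e2]
      exact Submodule.add_mem _ hx hy
  have hle : K ≤ (Ideal.map (algebraMap A C) I) • K := by
    intro y hy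
    have hy0 : φ y = 0 := (hK y).mp hy
    have h6 := hdiff y (hker_mem y hy0)
    rwa [hy0, map_zero, sub_zero] at h6
  obtain ⟨c, hc1, hc2⟩ := Submodule.exists_sub_one_mem_and_smul_eq_zero_of_fg_of_le_smul
    (Ideal.map (algebraMap A C) I) K hKfg hle
  have hcK : ∀ y, φ y = 0 → c * y = 0 := by
    intro y hy
    have h := hc2 y ((hK y).mpr hy)
    rwa [smul_eq_mul] at h
  have ha : ∀ y, φ y = 0 → Pn φ 1 c * y = 0 := fun y hy => Pn_one_mul_eq_zero φ hcK hy
  have hc1' : c - 1 ∈ I • (⊤ : Submodule A C) := by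
    rw [Ideal.smul_top_eq_map]
    exact hc1
  have h7 : (φ c).coeff 1 - 1 ∈ I := by
    have h := linear_mem_of_mem_smul_top I
      (coeffL A M 1 ∘ₗ (φ : C →ₐ[A] MonoidAlgebra A M).toLinearMap) hc1'
    have e3 : (coeffL A M 1 ∘ₗ (φ : C →ₐ[A] MonoidAlgebra A M).toLinearMap) (c - 1) =
        (φ c).coeff 1 - 1 := by
      show coeffL A M 1 (φ (c - 1)) = _
      rw [map_sub, map_sub, map_one, coeffL_apply, coeffL_apply, MonoidAlgebra.one_def,
        MonoidAlgebra.coeff_single, Finsupp.single_eq_same]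
    rwa [e3] at h
  obtain ⟨w, hw⟩ := (isUnit_of_sub_one_mem_jac I hJ h7).exists_left_inv
  have ha'1 : φ (w • Pn φ 1 c) = 1 := by
    rw [map_smul, map_Pn, MonoidAlgebra.smul_single, smul_eq_mul, hw, MonoidAlgebra.one_def]
  have ha'K : ∀ y, φ y = 0 → (w • Pn φ 1 c) * y = 0 := by
    intro y hy
    rw [smul_mul_assoc, ha y hy, smul_zero]
  obtain ⟨k1, k2, k3⟩ := idem_of_unit_lift φ ha'1 ha'K
  exact ⟨M, inferInstance, φ, 1 - w • Pn φ 1 c, hsurj, k1, k2, k3⟩

/-- If moreover `C` has no non-trivial idempotent vanishing along the unit section, then `C` is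
diagonalisable. -/
theorem isDiag_of_idem_trivial (hft : Algebra.FiniteType A C)
    (hfl : ∀ (q : Ideal C) [q.IsPrime], Ideal.map (algebraMap A C) I ≤ q →
      Module.Flat A (Localization.AtPrime q))
    (h0 : IsDiag (A ⧸ I) ((A ⧸ I) ⊗[A] C))
    (hidem : ∀ e : C, e * e = e → Coalgebra.counit (R := A) e = 0 → e = 0) : IsDiag A C := by
  obtain ⟨M, _, φ, e, hsurj, hee, hφe, hKe⟩ := exists_surj_ker_idem I hft hfl h0
  have he : e = 0 := by
    apply hidem e hee
    rw [← CoalgHomClass.counit_comp_apply φ e, hφe, map_zero]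
  have hinj : Function.Injective φ := by
    rw [injective_iff_map_eq_zero]
    intro y hy
    have h := hKe y hy
    rw [he, mul_zero] at h
    exact h.symm
  exact ⟨M, inferInstance, ⟨BialgEquiv.ofBijective φ ⟨hinj, hsurj⟩⟩⟩

end Main

end Groth.Agent.Lib.Helper6.FibConn
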