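import Mathlib
import Groth.Prelude.Def_SGA3b
import Groth.Agent.Lib.Helper6.FibConn.FC2

/-!
# Isotriviality over a complete base for groups with connected fibres (helper6)

* `idem_eq_zero_of_fibres_connected`: if `C` is an `A`-algebra with connected fibres and a section
  `ε`, and `D` is a finite flat finitely presented `C`-algebra, then an idempotent of `D` lying in
  the ideal generated by `ker ε` is zero.
* `isIsotrivial_of_fibres_connected`: SGA 3, X 3.? (affine form).
-/

set_option autoImplicit false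
set_option linter.unusedSectionVars false
set_option linter.unusedVariables false
set_option linter.unusedSimpArgs false
set_option linter.style.haveILetI false
set_option linter.overlappingInstances false
set_option maxHeartbeats 800000
set_option synthInstance.maxHeartbeats 400000

universe u
open TensorProduct SGA3b Coalgebra
open Groth.Agent.Lib.Helper6.MultType Groth.Agent.Lib.Helper6.Lift
open Groth.Agent.Lib.Helper6.IsoNil Groth.Agent.Lib.Helper6.QIso
open Groth.Agent.Lib.Helper6.IsoJac

namespace Groth.Agent.Lib.Helper6.FibConn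

section Conn

variable {A : Type u} [CommRing A] {C : Type u} [CommRing C] [Algebra A C]
variable {D : Type u} [CommRing D] [Algebra C D]

theorem idem_eq_zero_of_fibres_connected [Module.Flat C D] [Algebra.FinitePresentation C D]
    [Module.Finite C D] (ε : C →ₐ[A] A)
    (hconn : ∀ (p : Ideal A) [p.IsPrime], ConnectedSpace (PrimeSpectrum (p.ResidueField ⊗[A] C)))
    (e : D) (he : e * e = e) (hε : e ∈ Ideal.map (algebraMap C D) (RingHom.ker ε)) : e = 0 := by
  have hidem : IsIdempotentElem e := he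
  have hopen : IsOpenMap (PrimeSpectrum.comap (algebraMap C D)) :=
    PrimeSpectrum.isOpenMap_comap_of_hasGoingDown_of_finitePresentation
  have hclosed : IsClosedMap (PrimeSpectrum.comap (algebraMap C D)) :=
    PrimeSpectrum.isClosedMap_comap_of_isIntegral _ (algebraMap_isIntegral_iff.mpr inferInstance)
  have hclopenD : IsClopen (PrimeSpectrum.basicOpen e : Set (PrimeSpectrum D)) :=
    PrimeSpectrum.isClopen_iff.mpr ⟨e, hidem, rfl⟩
  have hU : IsClopen (PrimeSpectrum.comap (algebraMap C D) ''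
      (PrimeSpectrum.basicOpen e : Set (PrimeSpectrum D))) :=
    ⟨hclosed _ hclopenD.1, hopen _ hclopenD.2⟩
  have hall : ∀ q' : PrimeSpectrum D, e ∈ q'.asIdeal := by
    intro q'
    by_contra hq'
    have hq'D : q' ∈ (PrimeSpectrum.basicOpen e : Set (PrimeSpectrum D)) :=
      (PrimeSpectrum.mem_basicOpen e q').mpr hq'
    obtain ⟨q, hq⟩ : ∃ q : PrimeSpectrum C, q = PrimeSpectrum.comap (algebraMap C D) q' :=
      ⟨_, rfl⟩
    obtain ⟨p, hp⟩ : ∃ p : PrimeSpectrum A, p = PrimeSpectrum.comap (algebraMap A C) q :=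
      ⟨_, rfl⟩
    have hfib : IsPreconnected (PrimeSpectrum.comap (algebraMap A C) ⁻¹' {p}) := by
      haveI : ConnectedSpace (PrimeSpectrum (p.asIdeal.Fiber C)) := hconn p.asIdeal
      have hc : ConnectedSpace (PrimeSpectrum.comap (algebraMap A C) ⁻¹' {p}) :=
        (PrimeSpectrum.preimageHomeomorphFiber A C p).connectedSpace_iff.mpr inferInstance
      exact isPreconnected_iff_preconnectedSpace.mpr hc.toPreconnectedSpace
    have hsub := hfib.subset_isClopen hU ⟨q, hp.symm, q', hq'D, hq.symm⟩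
    obtain ⟨z, hzdef⟩ : ∃ z : PrimeSpectrum C, z = PrimeSpectrum.comap (ε : C →+* A) p :=
      ⟨_, rfl⟩
    have hz : z ∈ PrimeSpectrum.comap (algebraMap A C) ⁻¹' {p} := by
      show PrimeSpectrum.comap (algebraMap A C) z = p
      rw [hzdef]
      apply PrimeSpectrum.ext
      ext a
      have h : ε (algebraMap A C a) = a := by simp
      show ε (algebraMap A C a) ∈ p.asIdeal ↔ a ∈ p.asIdeal
      rw [h]
    obtain ⟨z', hz'D, hz'⟩ := hsub hz
    apply (PrimeSpectrum.mem_basicOpen e z').mp hz'D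
    have hle : Ideal.map (algebraMap C D) (RingHom.ker ε) ≤ z'.asIdeal := by
      rw [Ideal.map_le_iff_le_comap]
      intro x hx
      have hxz : x ∈ z.asIdeal := by
        rw [hzdef]
        show ε x ∈ p.asIdeal
        rw [RingHom.mem_ker.mp hx]
        exact zero_mem _
      rw [← hz'] at hxz
      exact hxz
    exact hle hε
  have hnil : IsNilpotent e := by
    rw [← mem_nilradical, nilradical_eq_sInf, Ideal.mem_sInf]
    intro J hJ
    exact hall ⟨J, hJ⟩
  exact hidem.eq_zero_of_isNilpotent hnil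

end Conn

section Bridge

variable {A : Type u} [CommRing A] {C : Type u} [CommRing C] [HopfAlgebra A C]
variable (R' : Type u) [CommRing R'] [Algebra A R']

lemma comm_sub_mem (x : R' ⊗[A] C) :
    Algebra.TensorProduct.comm A R' C x - (1 : C) ⊗ₜ[A] (Coalgebra.counit (R := R') x) ∈
      Ideal.map (algebraMap C (C ⊗[A] R')) (RingHom.ker (Bialgebra.counitAlgHom A C)) := by
  induction x using TensorProduct.induction_on with
  | zero =>
    rw [map_zero, map_zero, TensorProduct.tmul_zero, sub_zero]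
    exact Ideal.zero_mem _
  | tmul r c =>
    have hcu : Coalgebra.counit (R := R') (r ⊗ₜ[A] c) = (Bialgebra.counitAlgHom A C c) • r := by
      rw [TensorProduct.counit_tmul, CommSemiring.counit_apply]
      rfl
    have hmem : c - algebraMap A C (Bialgebra.counitAlgHom A C c) ∈
        RingHom.ker (Bialgebra.counitAlgHom A C) := by
      rw [RingHom.mem_ker, map_sub, AlgHom.commutes, Algebra.algebraMap_self_apply, sub_self]
    have e1 : Algebra.TensorProduct.comm A R' C (r ⊗ₜ[A] c) -
        (1 : C) ⊗ₜ[A] (Coalgebra.counit (R := R') (r ⊗ₜ[A] c)) =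
        algebraMap C (C ⊗[A] R') (c - algebraMap A C (Bialgebra.counitAlgHom A C c)) *
          ((1 : C) ⊗ₜ[A] r) := by
      rw [Algebra.TensorProduct.comm_tmul, hcu, TensorProduct.tmul_smul,
        TensorProduct.smul_tmul', ← Algebra.algebraMap_eq_smul_one, ← TensorProduct.sub_tmul,
        Algebra.TensorProduct.algebraMap_apply, Algebra.algebraMap_self_apply,
        Algebra.TensorProduct.tmul_mul_tmul, mul_one, one_mul]
    rw [e1]
    exact Ideal.mul_mem_right _ _ (Ideal.mem_map_of_mem _ hmem)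
  | add x y hx hy =>
    have e2 : Algebra.TensorProduct.comm A R' C (x + y) -
        (1 : C) ⊗ₜ[A] (Coalgebra.counit (R := R') (x + y)) =
        (Algebra.TensorProduct.comm A R' C x - (1 : C) ⊗ₜ[A] (Coalgebra.counit (R := R') x)) +
        (Algebra.TensorProduct.comm A R' C y - (1 : C) ⊗ₜ[A] (Coalgebra.counit (R := R') y)) := by
      rw [map_add, map_add, TensorProduct.tmul_add]
      abel
    rw [e2]
    exact Ideal.add_mem _ hx hy

theorem idem_tensor_eq_zero [Module.Flat A R'] [Algebra.FinitePresentation A R']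
    [Module.Finite A R']
    (hconn : ∀ (p : Ideal A) [p.IsPrime], ConnectedSpace (PrimeSpectrum (p.ResidueField ⊗[A] C)))
    (e : R' ⊗[A] C) (he : e * e = e) (hcu : Coalgebra.counit (R := R') e = 0) : e = 0 := by
  have h1 := comm_sub_mem R' e
  rw [hcu, TensorProduct.tmul_zero, sub_zero] at h1
  have h2 : (Algebra.TensorProduct.comm A R' C e) * (Algebra.TensorProduct.comm A R' C e) =
      Algebra.TensorProduct.comm A R' C e := by
    rw [← map_mul, he]
  have h3 := idem_eq_zero_of_fibres_connected (Bialgebra.counitAlgHom A C) hconn _ h2 h1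
  exact (Algebra.TensorProduct.comm A R' C).injective (h3.trans (map_zero _).symm)

end Bridge

section Iso

variable {R : Type u} [CommRing R]

/-- **SGA 3, X 3.?** (affine form): over a complete Noetherian base, a flat group of finite type
with connected fibres which is isotrivial of multiplicative type modulo `I` is isotrivial. -/
theorem isIsotrivial_of_fibres_connected [IsNoetherianRing R] (I : Ideal R) [IsAdicComplete I R]
    {A : Type u} [CommRing A] [HopfAlgebra R A] [Module.Flat R A]
    (hft : Algebra.FiniteType R A)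
    (hconn : ∀ (p : Ideal R) [p.IsPrime], ConnectedSpace (PrimeSpectrum (p.ResidueField ⊗[R] A)))
    (h0 : IsIsotrivial (R ⧸ I) ((R ⧸ I) ⊗[R] A)) : IsIsotrivial R A := by
  obtain ⟨R₀', _, _, hét₀, hfin₀, hff₀, hd₀⟩ := h0
  haveI := hét₀
  haveI := hfin₀
  haveI := hff₀
  obtain ⟨R', _, _, hfin, hét, ⟨θ⟩⟩ := Groth.Agent.Helper7.FinEtaleLift.S0532_main R I R₀'
  haveI := hfin
  haveI := hét
  letI : Algebra R R₀' := ((algebraMap (R ⧸ I) R₀').comp (Ideal.Quotient.mk I)).toAlgebra
  haveI : IsScalarTower R (R ⧸ I) R₀' := IsScalarTower.of_algebraMap_eq' rfl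
  obtain ⟨q, hq⟩ : ∃ q : R' →+* R₀', ∀ x, q x = θ ((1 : R ⧸ I) ⊗ₜ[R] x) :=
    ⟨(θ : _ →+* R₀').comp
      (Algebra.TensorProduct.includeRight : R' →ₐ[R] (R ⧸ I) ⊗[R] R').toRingHom, fun x => rfl⟩
  have hcomp : ∀ r : R, q (algebraMap R R' r) =
      algebraMap (R ⧸ I) R₀' (Ideal.Quotient.mk I r) := by
    intro r
    have h3 : (1 : R ⧸ I) ⊗ₜ[R] (algebraMap R R' r) =
        (Ideal.Quotient.mk I r) ⊗ₜ[R] (1 : R') := by
      rw [Algebra.algebraMap_eq_smul_one, ← TensorProduct.smul_tmul, Algebra.smul_def, mul_one]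
      rfl
    rw [hq, h3, ← θ.commutes (Ideal.Quotient.mk I r), Algebra.TensorProduct.algebraMap_apply]
    rfl
  haveI hffR' : Module.FaithfullyFlat R R' :=
    faithfullyFlat_of_lift_jac I (IsAdicComplete.le_jacobson_bot I) q hcomp
  haveI : IsNoetherianRing R' := IsNoetherianRing.of_finite R R'
  haveI : IsAdicComplete I R' := Groth.Agent.Lib.Helper4.FFAlg1.isAdicComplete_of_finite I
  haveI : IsAdicComplete (I.map (algebraMap R R')) R' :=
    (IsAdicComplete.map_algebraMap_iff I R').mpr inferInstance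
  have hd1 : IsDiag R₀' (R₀' ⊗[R] A) := IsDiag.of_tower (R ⧸ I) R₀' hd₀
  obtain ⟨τ, hτ⟩ : ∃ τ : R₀' →+* (R' ⧸ I.map (algebraMap R R')),
      ∀ r : R, τ (algebraMap R R₀' r) = algebraMap R (R' ⧸ I.map (algebraMap R R')) r := by
    obtain ⟨f, hf⟩ : ∃ f : (R ⧸ I) →ₐ[R] (R' ⧸ I.map (algebraMap R R')),
        ∀ r : R, f (Ideal.Quotient.mk I r) = algebraMap R (R' ⧸ I.map (algebraMap R R')) r := by
      refine ⟨Ideal.Quotient.liftₐ I (Algebra.ofId R _) (fun r hr => ?_), fun r => rfl⟩
      rw [Algebra.ofId_apply, IsScalarTower.algebraMap_apply R R' (R' ⧸ I.map (algebraMap R R')),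
        Ideal.Quotient.algebraMap_eq, Ideal.Quotient.eq_zero_iff_mem]
      exact Ideal.mem_map_of_mem _ hr
    obtain ⟨L, hL⟩ : ∃ L : (R ⧸ I) ⊗[R] R' →ₐ[R] (R' ⧸ I.map (algebraMap R R')),
        ∀ (a : R ⧸ I) (x : R'), L (a ⊗ₜ[R] x) = f a * Ideal.Quotient.mk _ x :=
      ⟨Algebra.TensorProduct.lift f (Ideal.Quotient.mkₐ R _) (fun _ _ => Commute.all _ _),
        fun a x => by rw [Algebra.TensorProduct.lift_tmul]; rfl⟩
    refine ⟨L.toRingHom.comp (θ.symm : R₀' →+* _), ?_⟩
    intro r
    show L (θ.symm (algebraMap R R₀' r)) = _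
    have h4 : algebraMap R R₀' r = algebraMap (R ⧸ I) R₀' (Ideal.Quotient.mk I r) := rfl
    rw [h4, θ.symm.commutes, Algebra.TensorProduct.algebraMap_apply, hL, map_one, mul_one]
    exact hf r
  have hd2 : IsDiag (R' ⧸ I.map (algebraMap R R')) ((R' ⧸ I.map (algebraMap R R')) ⊗[R] A) :=
    isDiag_transfer τ hτ hd1
  have hd3 : IsDiag (R' ⧸ I.map (algebraMap R R'))
      ((R' ⧸ I.map (algebraMap R R')) ⊗[R'] (R' ⊗[R] A)) :=
    IsDiag.to_tower R' (R' ⧸ I.map (algebraMap R R')) hd2
  haveI := hft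
  have hft' : Algebra.FiniteType R' (R' ⊗[R] A) := inferInstance
  have hfl' : ∀ (q : Ideal (R' ⊗[R] A)) [q.IsPrime],
      Ideal.map (algebraMap R' (R' ⊗[R] A)) (I.map (algebraMap R R')) ≤ q →
      Module.Flat R' (Localization.AtPrime q) := by
    intro q _ _
    exact Module.Flat.trans R' (R' ⊗[R] A) (Localization.AtPrime q)
  have hdiag : IsDiag R' (R' ⊗[R] A) :=
    isDiag_of_idem_trivial (I.map (algebraMap R R')) hft' hfl' hd3
      (fun e he hcu => idem_tensor_eq_zero R' hconn e he hcu)
  exact ⟨R', inferInstance, inferInstance, hét, hfin, hffR', hdiag⟩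

end Iso

end Groth.Agent.Lib.Helper6.FibConn
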