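import Mathlib
import Groth.Prelude.Def_SGA3b
import Groth.Agent.Lib.Helper6.FibConn.FC4
import Groth.Agent.Lib.Helper6.TorsOpen.O3

/-!
# Isotriviality over a complete base for commutative groups with finite torsion (helper6)

Let `B` be Noetherian and `J`-adically complete, `D` a commutative flat Hopf algebra of finite type
over `B` with `D / J D` diagonalisable, and such that the kernels of the power maps are finite over
`B`.  Then `D` is diagonalisable: by `exists_surj_ker_idem'` there is an open and closed subgroup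
`G = V(e)` of multiplicative type, where `e` is an idempotent of `J D`; the image of `e` in the
finite algebras `D / Jₙ` is an idempotent in the radical, hence zero, i.e. `e ∈ Jₙ` for all `n`;
the density of the torsion in the fibres then shows that `e` vanishes in all fibres, hence `e = 0`.
-/

set_option autoImplicit false
set_option linter.unusedSectionVars false
set_option linter.unusedVariables false
set_option linter.unusedSimpArgs false
set_option linter.style.haveILetI false
set_option linter.overlappingInstances false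
set_option maxHeartbeats 800000
set_option synthInstance.maxHeartbeats 400000

universe u
open TensorProduct SGA3b Coalgebra
open Groth.Agent.Lib.Helper6.MultType Groth.Agent.Lib.Helper6.Lift
open Groth.Agent.Lib.Helper6.IsoNil Groth.Agent.Lib.Helper6.QIso
open Groth.Agent.Lib.Helper6.IsoJac Groth.Agent.Lib.Helper6.Isotriv

namespace Groth.Agent.Lib.Helper6.FibConn

section Gen2

variable {A : Type u} [CommRing A] (I : Ideal A)

lemma linear_mem_smul_top {N N' : Type u} [AddCommGroup N] [Module A N] [AddCommGroup N']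
    [Module A N'] (f : N →ₗ[A] N') {b : N} (hb : b ∈ I • (⊤ : Submodule A N)) :
    f b ∈ I • (⊤ : Submodule A N') := by
  refine Submodule.smul_induction_on (p := fun b => f b ∈ I • (⊤ : Submodule A N')) hb ?_ ?_
  · intro r hr x _
    show f (r • x) ∈ _
    rw [map_smul]
    exact Submodule.smul_mem_smul hr Submodule.mem_top
  · intro x y hx hy
    show f (x + y) ∈ _
    rw [map_add]
    exact Submodule.add_mem _ hx hy

end Gen2

section Claim1

variable {B : Type u} [CommRing B] [IsNoetherianRing B] (J : Ideal B)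

/-- An idempotent of a finite algebra lying in `J Q`, with `J` in the radical, is zero. -/
lemma idem_eq_zero_of_mem_smul_top {Q : Type u} [CommRing Q] [Algebra B Q] [Module.Finite B Q]
    (hJ : J ≤ Ideal.jacobson ⊥) (x : Q) (hx : x * x = x)
    (hmem : x ∈ J • (⊤ : Submodule B Q)) : x = 0 := by
  haveI : IsNoetherian B Q := isNoetherian_of_isNoetherianRing_of_finite B Q
  obtain ⟨N, hN⟩ : ∃ N : Submodule B Q, N = (Ideal.span {x}).restrictScalars B := ⟨_, rfl⟩
  have hmemN : ∀ y, y ∈ N ↔ ∃ q, q * x = y := by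
    intro y
    rw [hN, Submodule.restrictScalars_mem, Ideal.mem_span_singleton']
  have hfg : N.FG := IsNoetherian.noetherian N
  have hmul : ∀ b : Q, b ∈ J • (⊤ : Submodule B Q) → ∀ y ∈ N, b * y ∈ J • N := by
    intro b hb y hy
    refine Submodule.smul_induction_on (p := fun b => b * y ∈ J • N) hb ?_ ?_
    · intro r hr q _
      show (r • q) * y ∈ J • N
      rw [smul_mul_assoc]
      refine Submodule.smul_mem_smul hr ?_
      obtain ⟨q', rfl⟩ := (hmemN y).mp hy
      exact (hmemN _).mpr ⟨q * q', by ring⟩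
    · intro b b' hb hb'
      show (b + b') * y ∈ J • N
      rw [add_mul]
      exact Submodule.add_mem _ hb hb'
  have hle : N ≤ J • N := by
    intro y hy
    obtain ⟨q, rfl⟩ := (hmemN y).mp hy
    have h1 : q * x = x * (q * x) := by
      calc q * x = q * (x * x) := by rw [hx]
        _ = x * (q * x) := by ring
    rw [h1]
    exact hmul x hmem _ ((hmemN _).mpr ⟨q, rfl⟩)
  have hbot : N = ⊥ := Submodule.eq_bot_of_le_smul_of_le_jacobson_bot J N hfg hle hJ
  have hxN : x ∈ N := (hmemN x).mpr ⟨1, one_mul x⟩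
  rw [hbot] at hxN
  exact (Submodule.mem_bot B).mp hxN

variable {D : Type u} [CommRing D] [HopfAlgebra B D]

lemma idem_mem_torsionIdeal (hJ : J ≤ Ideal.jacobson ⊥) (n : ℕ)
    [Module.Finite B (D ⧸ torsionIdeal B D n)] (e : D) (he : e * e = e)
    (hmem : e ∈ J • (⊤ : Submodule B D)) : e ∈ torsionIdeal B D n := by
  have h1 : Ideal.Quotient.mk (torsionIdeal B D n) e = 0 := by
    apply idem_eq_zero_of_mem_smul_top J hJ
    · rw [← map_mul, he]
    · exact linear_mem_smul_top J (Ideal.Quotient.mkₐ B (torsionIdeal B D n)).toLinearMap hmem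
  exact Ideal.Quotient.eq_zero_iff_mem.mp h1

end Claim1

section Ker

variable {B : Type u} [CommRing B] {M : Type u} [CommGroup M]
variable {D : Type u} [CommRing D] [HopfAlgebra B D]
variable (φ : D →ₐc[B] MonoidAlgebra B M)

/-- The kernel of a base change of `φ` is generated by the image of `e`. -/
lemma ker_baseChange (hsurj : Function.Surjective φ) (e : D)
    (hKe : ∀ y, φ y = 0 → y * e = y)
    (k : Type u) [CommRing k] [Algebra B k] (z : k ⊗[B] D)
    (hz : Bialgebra.TensorProduct.map (BialgHom.id k k) φ z = 0) :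
    (1 - (1 : k) ⊗ₜ[B] e) * z = 0 := by
  classical
  have hpre : ∀ m : M, ∃ c : D, φ c = MonoidAlgebra.single m (1 : B) := fun m => hsurj _
  choose cm hcm using hpre
  obtain ⟨s, hs⟩ : ∃ s : MonoidAlgebra B M →ₗ[B] D,
      ∀ m r, s (MonoidAlgebra.single m r) = r • cm m := by
    refine ⟨(Finsupp.linearCombination B cm) ∘ₗ
      (MonoidAlgebra.coeffLinearEquiv B).toLinearMap, ?_⟩
    intro m r
    show Finsupp.linearCombination B cm ((MonoidAlgebra.single m r).coeff) = _
    rw [MonoidAlgebra.coeff_single, Finsupp.linearCombination_single]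
  have hφs : ∀ b, φ (s b) = b := by
    intro b
    induction b using MonoidAlgebra.induction_linear with
    | zero => rw [map_zero, map_zero]
    | add x y hx hy => rw [map_add, map_add, hx, hy]
    | single m r => rw [hs, map_smul, hcm, MonoidAlgebra.smul_single, smul_eq_mul, mul_one]
  obtain ⟨ψ, hψ⟩ : ∃ ψ : MonoidAlgebra B M →ₗ[B] D, ∀ b, ψ b = (1 - e) * s b :=
    ⟨(LinearMap.mulLeft B (1 - e)) ∘ₗ s, fun b => rfl⟩
  have hid : ∀ y : D, (1 - e) * y = ψ (φ y) := by
    intro y
    have h1 : φ (y - s (φ y)) = 0 := by rw [map_sub, hφs, sub_self]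
    have h2 := hKe _ h1
    rw [hψ]
    have h3 : (1 - e) * y - (1 - e) * s (φ y) = (y - s (φ y)) - (y - s (φ y)) * e := by ring
    rw [h2, sub_self] at h3
    exact sub_eq_zero.mp h3
  have key : ∀ z : k ⊗[B] D, ((1 : k) ⊗ₜ[B] (1 - e)) * z =
      (ψ.lTensor k) (Bialgebra.TensorProduct.map (BialgHom.id k k) φ z) := by
    intro z
    induction z using TensorProduct.induction_on with
    | zero => rw [mul_zero, map_zero, map_zero]
    | tmul a y =>
      rw [Algebra.TensorProduct.tmul_mul_tmul, one_mul, hid]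
      rfl
    | add z z' hz hz' => rw [mul_add, map_add, map_add, hz, hz']
  have h4 := key z
  rw [hz, map_zero] at h4
  have e5 : (1 : k ⊗[B] D) - (1 : k) ⊗ₜ[B] e = (1 : k) ⊗ₜ[B] (1 - e) := by
    rw [TensorProduct.tmul_sub]
    rfl
  rw [e5]
  exact h4

end Ker

section Fibre

variable {B : Type u} [CommRing B] {M : Type u} [CommGroup M]
variable {D : Type u} [CommRing D] [HopfAlgebra B D] [Coalgebra.IsCocomm B D]

/-- The idempotent vanishes in every fibre. -/
theorem one_tmul_idem_eq_zero (hft : Algebra.FiniteType B D)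
    (φ : D →ₐc[B] MonoidAlgebra B M) (hsurj : Function.Surjective φ) (e : D)
    (hee : e * e = e) (hφe : φ e = 0) (hKe : ∀ y, φ y = 0 → y * e = y)
    (htors : ∀ n : ℕ, 0 < n → e ∈ torsionIdeal B D n)
    (k : Type u) [Field k] [Algebra B k] : (1 : k) ⊗ₜ[B] e = 0 := by
  haveI := hft
  have hA : IsMultType k (k ⊗[B] MonoidAlgebra B M) :=
    isMultType_of_isDiag ⟨M, inferInstance, ⟨scalarTensorBialgEquiv B k M⟩⟩
  have hq := Groth.Agent.Lib.Helper6.MTKer2.map_surj φ k hsurj
  have hidem : IsIdempotentElem ((1 : k) ⊗ₜ[B] e) := by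
    show (1 : k) ⊗ₜ[B] e * (1 : k) ⊗ₜ[B] e = _
    rw [Algebra.TensorProduct.tmul_mul_tmul, one_mul, hee]
  have hqe : Bialgebra.TensorProduct.map (BialgHom.id k k) φ ((1 : k) ⊗ₜ[B] e) = 0 := by
    show (1 : k) ⊗ₜ[B] φ e = 0
    rw [hφe, TensorProduct.tmul_zero]
  obtain ⟨m, hm⟩ := Groth.Agent.Lib.Helper6.TorsOpen.exists_pow_mul_eq_zero_of_open
    (inferInstance : Algebra.FiniteType k (k ⊗[B] D)) hA
    (Bialgebra.TensorProduct.map (BialgHom.id k k) φ) hq ((1 : k) ⊗ₜ[B] e) hidem hqe
    (fun z hz => ker_baseChange φ hsurj e hKe k z hz) (AlgebraicClosure k) 1 ((1 : k) ⊗ₜ[B] e)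
    (fun n hn => ⟨0, by
      rw [pow_zero, one_mul]
      exact Groth.Agent.Lib.Helper6.TorsDense.one_tmul_mem_torsionIdeal k n (htors n hn)⟩)
  rwa [one_pow, one_mul] at hm

end Fibre

section Spec

lemma mem_of_fibre_zero {B D : Type u} [CommRing B] [CommRing D] [Algebra B D] (e : D)
    (q : PrimeSpectrum D)
    (h : (1 : (PrimeSpectrum.comap (algebraMap B D) q).asIdeal.ResidueField) ⊗ₜ[B] e = 0) :
    e ∈ q.asIdeal := by
  have hq : q ∈ PrimeSpectrum.comap (algebraMap B D) ⁻¹'
      {PrimeSpectrum.comap (algebraMap B D) q} := rfl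
  have h1 := congrArg Subtype.val
    ((PrimeSpectrum.preimageEquivFiber B D
      (PrimeSpectrum.comap (algebraMap B D) q)).symm_apply_apply ⟨q, hq⟩)
  obtain ⟨Q, hQ⟩ : ∃ Q : PrimeSpectrum
      ((PrimeSpectrum.comap (algebraMap B D) q).asIdeal.Fiber D),
      q = PrimeSpectrum.comap (Algebra.TensorProduct.includeRight :
        D →ₐ[B] (PrimeSpectrum.comap (algebraMap B D) q).asIdeal.Fiber D).toRingHom Q :=
    ⟨(PrimeSpectrum.preimageEquivFiber B D (PrimeSpectrum.comap (algebraMap B D) q)) ⟨q, hq⟩,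
      h1.symm⟩
  rw [hQ]
  show (1 : (PrimeSpectrum.comap (algebraMap B D) q).asIdeal.ResidueField) ⊗ₜ[B] e ∈ Q.asIdeal
  rw [h]
  exact zero_mem _

end Spec

section Main

variable {B : Type u} [CommRing B] [IsNoetherianRing B] (J : Ideal B) [IsAdicComplete J B]
variable {D : Type u} [CommRing D] [HopfAlgebra B D] [Coalgebra.IsCocomm B D]

theorem isDiag_of_torsion_finite (hft : Algebra.FiniteType B D)
    (hfl : ∀ (q : Ideal D) [q.IsPrime], Ideal.map (algebraMap B D) J ≤ q →
      Module.Flat B (Localization.AtPrime q))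
    (h0 : IsDiag (B ⧸ J) ((B ⧸ J) ⊗[B] D))
    (hfin : ∀ n : ℕ, 0 < n → Module.Finite B (D ⧸ torsionIdeal B D n)) : IsDiag B D := by
  obtain ⟨M, _, φ, e, hsurj, hee, hφe, hKe, hker⟩ := exists_surj_ker_idem' J hft hfl h0
  have hJ := IsAdicComplete.le_jacobson_bot J
  have htors : ∀ n : ℕ, 0 < n → e ∈ torsionIdeal B D n := by
    intro n hn
    haveI := hfin n hn
    exact idem_mem_torsionIdeal J hJ n e hee (hker e hφe)
  have hall : ∀ q : PrimeSpectrum D, e ∈ q.asIdeal := by
    intro q
    apply mem_of_fibre_zero (B := B) e q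
    exact one_tmul_idem_eq_zero hft φ hsurj e hee hφe hKe htors _
  have hnil : IsNilpotent e := by
    rw [← mem_nilradical, nilradical_eq_sInf, Ideal.mem_sInf]
    intro P hP
    exact hall ⟨P, hP⟩
  have he : e = 0 := (show IsIdempotentElem e from hee).eq_zero_of_isNilpotent hnil
  have hinj : Function.Injective φ := by
    rw [injective_iff_map_eq_zero]
    intro y hy
    have h := hKe y hy
    rw [he, mul_zero] at h
    exact h.symm
  exact ⟨M, inferInstance, ⟨BialgEquiv.ofBijective φ ⟨hinj, hsurj⟩⟩⟩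

end Main

section BCfin

variable {R : Type u} [CommRing R] {A : Type u} [CommRing A] [HopfAlgebra R A]

lemma finite_quot_torsionIdeal_baseChange (R' : Type u) [CommRing R'] [Algebra R R'] (n : ℕ)
    [Module.Finite R (A ⧸ torsionIdeal R A n)] :
    Module.Finite R' ((R' ⊗[R] A) ⧸ torsionIdeal R' (R' ⊗[R] A) n) := by
  obtain ⟨g, hg⟩ : ∃ g : (A ⧸ torsionIdeal R A n) →ₐ[R]
      ((R' ⊗[R] A) ⧸ torsionIdeal R' (R' ⊗[R] A) n),
      ∀ a : A, g (Ideal.Quotient.mk _ a) = Ideal.Quotient.mk _ ((1 : R') ⊗ₜ[R] a) := by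
    refine ⟨Ideal.Quotient.liftₐ (torsionIdeal R A n)
      ((Ideal.Quotient.mkₐ R (torsionIdeal R' (R' ⊗[R] A) n)).comp
        (Algebra.TensorProduct.includeRight : A →ₐ[R] R' ⊗[R] A)) (fun a ha => ?_), fun a => rfl⟩
    show Ideal.Quotient.mk _ ((1 : R') ⊗ₜ[R] a) = 0
    exact Ideal.Quotient.eq_zero_iff_mem.mpr
      (Groth.Agent.Lib.Helper6.TorsDense.one_tmul_mem_torsionIdeal R' n ha)
  have hsurj : Function.Surjective (LinearMap.liftBaseChange R' g.toLinearMap) := by
    intro y
    obtain ⟨x, rfl⟩ := Ideal.Quotient.mk_surjective y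
    induction x using TensorProduct.induction_on with
    | zero => exact ⟨0, by rw [map_zero, map_zero]⟩
    | tmul r a =>
      refine ⟨r ⊗ₜ[R] (Ideal.Quotient.mk _ a), ?_⟩
      have e1 : r ⊗ₜ[R] a = r • ((1 : R') ⊗ₜ[R] a) := by
        rw [TensorProduct.smul_tmul', smul_eq_mul, mul_one]
      rw [LinearMap.liftBaseChange_tmul, e1]
      show r • g (Ideal.Quotient.mk _ a) =
        Ideal.Quotient.mkₐ R' _ (r • ((1 : R') ⊗ₜ[R] a))
      rw [map_smul, hg]
      rfl
    | add x x' hx hx' =>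
      obtain ⟨z, hz⟩ := hx
      obtain ⟨z', hz'⟩ := hx'
      exact ⟨z + z', by rw [map_add, hz, hz', map_add]⟩
  exact Module.Finite.of_surjective _ hsurj

end BCfin

section Iso

variable {R : Type u} [CommRing R]

/-- **SGA 3, X** (affine form): over a complete Noetherian base, a flat commutative group of finite
type with finite torsion which is isotrivial of multiplicative type modulo `I` is isotrivial. -/
theorem isIsotrivial_of_torsion_finite [IsNoetherianRing R] (I : Ideal R) [IsAdicComplete I R]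
    {A : Type u} [CommRing A] [HopfAlgebra R A] [Coalgebra.IsCocomm R A] [Module.Flat R A]
    (hft : Algebra.FiniteType R A)
    (h0 : IsIsotrivial (R ⧸ I) ((R ⧸ I) ⊗[R] A))
    (hfinT : ∀ n : ℕ, 0 < n → Module.Finite R (A ⧸ torsionIdeal R A n)) : IsIsotrivial R A := by
  obtain ⟨R₀', _, _, hét₀, hfin₀, hff₀, hd₀⟩ := h0
  haveI := hét₀
  haveI := hfin₀
  haveI := hff₀
  obtain ⟨R', _, _, hfin, hét, ⟨θ⟩⟩ := Groth.Agent.Helper7.FinEtaleLift.S0532_main R I R₀'
  haveI := hfin
  haveI := hét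
  letI : Algebra R R₀' := ((algebraMap (R ⧸ I) R₀').comp (Ideal.Quotient.mk I)).toAlgebra
  haveI : IsScalarTower R (R ⧸ I) R₀' := IsScalarTower.of_algebraMap_eq' rfl
  obtain ⟨q, hq⟩ : ∃ q : R' →+* R₀', ∀ x, q x = θ ((1 : R ⧸ I) ⊗ₜ[R] x) :=
    ⟨(θ : _ →+* R₀').comp
      (Algebra.TensorProduct.includeRight : R' →ₐ[R] (R ⧸ I) ⊗[R] R').toRingHom, fun x => rfl⟩
  have hcomp : ∀ r : R, q (algebraMap R R' r) =
      algebraMap (R ⧸ I) R₀' (Ideal.Quotient.mk I r) := by
    intro r
    have h3 : (1 : R ⧸ I) ⊗ₜ[R] (algebraMap R R' r) =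
        (Ideal.Quotient.mk I r) ⊗ₜ[R] (1 : R') := by
      rw [Algebra.algebraMap_eq_smul_one, ← TensorProduct.smul_tmul, Algebra.smul_def, mul_one]
      rfl
    rw [hq, h3, ← θ.commutes (Ideal.Quotient.mk I r), Algebra.TensorProduct.algebraMap_apply]
    rfl
  haveI hffR' : Module.FaithfullyFlat R R' :=
    faithfullyFlat_of_lift_jac I (IsAdicComplete.le_jacobson_bot I) q hcomp
  haveI : IsNoetherianRing R' := IsNoetherianRing.of_finite R R'
  haveI : IsAdicComplete I R' := Groth.Agent.Lib.Helper4.FFAlg1.isAdicComplete_of_finite I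
  haveI : IsAdicComplete (I.map (algebraMap R R')) R' :=
    (IsAdicComplete.map_algebraMap_iff I R').mpr inferInstance
  have hd1 : IsDiag R₀' (R₀' ⊗[R] A) := IsDiag.of_tower (R ⧸ I) R₀' hd₀
  obtain ⟨τ, hτ⟩ : ∃ τ : R₀' →+* (R' ⧸ I.map (algebraMap R R')),
      ∀ r : R, τ (algebraMap R R₀' r) = algebraMap R (R' ⧸ I.map (algebraMap R R')) r := by
    obtain ⟨f, hf⟩ : ∃ f : (R ⧸ I) →ₐ[R] (R' ⧸ I.map (algebraMap R R')),
        ∀ r : R, f (Ideal.Quotient.mk I r) = algebraMap R (R' ⧸ I.map (algebraMap R R')) r := by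
      refine ⟨Ideal.Quotient.liftₐ I (Algebra.ofId R _) (fun r hr => ?_), fun r => rfl⟩
      rw [Algebra.ofId_apply, IsScalarTower.algebraMap_apply R R' (R' ⧸ I.map (algebraMap R R')),
        Ideal.Quotient.algebraMap_eq, Ideal.Quotient.eq_zero_iff_mem]
      exact Ideal.mem_map_of_mem _ hr
    obtain ⟨L, hL⟩ : ∃ L : (R ⧸ I) ⊗[R] R' →ₐ[R] (R' ⧸ I.map (algebraMap R R')),
        ∀ (a : R ⧸ I) (x : R'), L (a ⊗ₜ[R] x) = f a * Ideal.Quotient.mk _ x :=
      ⟨Algebra.TensorProduct.lift f (Ideal.Quotient.mkₐ R _) (fun _ _ => Commute.all _ _),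
        fun a x => by rw [Algebra.TensorProduct.lift_tmul]; rfl⟩
    refine ⟨L.toRingHom.comp (θ.symm : R₀' →+* _), ?_⟩
    intro r
    show L (θ.symm (algebraMap R R₀' r)) = _
    have h4 : algebraMap R R₀' r = algebraMap (R ⧸ I) R₀' (Ideal.Quotient.mk I r) := rfl
    rw [h4, θ.symm.commutes, Algebra.TensorProduct.algebraMap_apply, hL, map_one, mul_one]
    exact hf r
  have hd2 : IsDiag (R' ⧸ I.map (algebraMap R R')) ((R' ⧸ I.map (algebraMap R R')) ⊗[R] A) :=
    isDiag_transfer τ hτ hd1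
  have hd3 : IsDiag (R' ⧸ I.map (algebraMap R R'))
      ((R' ⧸ I.map (algebraMap R R')) ⊗[R'] (R' ⊗[R] A)) :=
    IsDiag.to_tower R' (R' ⧸ I.map (algebraMap R R')) hd2
  haveI := hft
  have hft' : Algebra.FiniteType R' (R' ⊗[R] A) := inferInstance
  have hfl' : ∀ (q : Ideal (R' ⊗[R] A)) [q.IsPrime],
      Ideal.map (algebraMap R' (R' ⊗[R] A)) (I.map (algebraMap R R')) ≤ q →
      Module.Flat R' (Localization.AtPrime q) := by
    intro q _ _
    exact Module.Flat.trans R' (R' ⊗[R] A) (Localization.AtPrime q)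
  have hfin' : ∀ n : ℕ, 0 < n →
      Module.Finite R' ((R' ⊗[R] A) ⧸ torsionIdeal R' (R' ⊗[R] A) n) := by
    intro n hn
    haveI := hfinT n hn
    exact finite_quot_torsionIdeal_baseChange R' n
  have hdiag : IsDiag R' (R' ⊗[R] A) :=
    isDiag_of_torsion_finite (I.map (algebraMap R R')) hft' hfl' hd3 hfin'
  exact ⟨R', inferInstance, inferInstance, hét, hfin, hffR', hdiag⟩

end Iso

end Groth.Agent.Lib.Helper6.FibConn
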