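import Mathlib
import Groth.Prelude.Def_SGA3b
import Groth.Agent.Lib.Helper6.FibConn.FC5

/-!
# Tools for the open and closed subgroup of multiplicative type (helper6)

* `idem_eq_zero_of_mem_smul_top_monoidAlgebra`: over a `J`-adically separated ring, an idempotent of
  a group algebra with coefficients in `J` is zero.
* `exists_idem_descent`: topological descent of a maximal idempotent along a finite flat finitely
  presented ring map.
* `comul_mul_compl_eq_zero`: if `φ : D → B[M]` is a surjective bialgebra map with kernel generated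
  by an idempotent `e`, then `Δ e * ((1 - e) ⊗ (1 - e)) = 0`.
* `nonempty_bialgEquiv_of_same_kernel`: two surjective bialgebra maps with the same idempotent
  kernel have isomorphic targets.
-/

set_option autoImplicit false
set_option linter.unusedSectionVars false
set_option linter.unusedVariables false
set_option linter.unusedSimpArgs false
set_option linter.style.haveILetI false
set_option linter.overlappingInstances false
set_option maxHeartbeats 800000
set_option synthInstance.maxHeartbeats 400000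

universe u
open TensorProduct SGA3b Coalgebra
open Groth.Agent.Lib.Helper6.MultType

namespace Groth.Agent.Lib.Helper6.FibConn

section L

variable {B : Type u} [CommRing B] (J K : Ideal B) {S : Type u} [CommRing S] [Algebra B S]

lemma mul_mem_smul_top {x y : S} (hx : x ∈ J • (⊤ : Submodule B S))
    (hy : y ∈ K • (⊤ : Submodule B S)) : x * y ∈ (J * K) • (⊤ : Submodule B S) := by
  refine Submodule.smul_induction_on (p := fun x => x * y ∈ (J * K) • (⊤ : Submodule B S))
    hx ?_ ?_
  · intro r hr s _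
    refine Submodule.smul_induction_on
      (p := fun y => (r • s) * y ∈ (J * K) • (⊤ : Submodule B S)) hy ?_ ?_
    · intro r' hr' s' _
      show (r • s) * (r' • s') ∈ _
      rw [smul_mul_smul_comm]
      exact Submodule.smul_mem_smul (Ideal.mul_mem_mul hr hr') Submodule.mem_top
    · intro y y' h h'
      show (r • s) * (y + y') ∈ _
      rw [mul_add]
      exact Submodule.add_mem _ h h'
  · intro x x' h h'
    show (x + x') * y ∈ _
    rw [add_mul]
    exact Submodule.add_mem _ h h'

/-- Over a `J`-adically separated ring, an idempotent of a group algebra with coefficients in `J`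
is zero. -/
lemma idem_eq_zero_of_mem_smul_top_monoidAlgebra [IsHausdorff J B] {M : Type u} [CommGroup M]
    (b : MonoidAlgebra B M) (hb : b * b = b)
    (hJ : b ∈ J • (⊤ : Submodule B (MonoidAlgebra B M))) : b = 0 := by
  have hpow : ∀ n : ℕ, b ∈ (J ^ (n + 1)) • (⊤ : Submodule B (MonoidAlgebra B M)) := by
    intro n
    induction n with
    | zero => rwa [zero_add, pow_one]
    | succ n ih =>
      have h := mul_mem_smul_top J (J ^ (n + 1)) hJ ih
      rwa [hb, ← pow_succ'] at h
  have hcoef : ∀ m, b.coeff m = 0 := by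
    intro m
    refine IsHausdorff.haus' (I := J) (b.coeff m) fun n => ?_
    rw [SModEq.zero, smul_eq_mul, Ideal.mul_top]
    cases n with
    | zero =>
      rw [pow_zero, Ideal.one_eq_top]
      exact Submodule.mem_top
    | succ k => exact linear_mem_of_mem_smul_top (J ^ (k + 1)) (coeffL B M m) (hpow k)
  apply MonoidAlgebra.ext
  ext m
  rw [hcoef m]
  rfl

end L

section Desc

variable {C : Type u} [CommRing C] {E : Type u} [CommRing E] [Algebra C E]

lemma idem_mem_of_mem_radical {R : Type u} [CommRing R] (𝔞 : Ideal R) {e : R}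
    (he : IsIdempotentElem e) (h : e ∈ 𝔞.radical) : e ∈ 𝔞 := by
  obtain ⟨n, hn⟩ := h
  cases n with
  | zero =>
    rw [pow_zero] at hn
    rw [(Ideal.eq_top_iff_one 𝔞).mpr hn]
    exact Submodule.mem_top
  | succ k => rwa [he.pow_succ_eq] at hn

/-- Topological descent of a maximal idempotent. -/
theorem exists_idem_descent [Module.Flat C E] [Algebra.FinitePresentation C E]
    [Module.Finite C E] (𝔞 : Ideal C) (e'' : E) (he : e'' * e'' = e'')
    (hmem : e'' ∈ Ideal.map (algebraMap C E) 𝔞)
    (hmax : ∀ f : E, f * f = f → f ∈ Ideal.map (algebraMap C E) 𝔞 → f * e'' = f) :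
    ∃ e : C, IsIdempotentElem e ∧ e ∈ 𝔞 ∧ algebraMap C E e = e'' := by
  have hidem : IsIdempotentElem e'' := he
  have hopen : IsOpenMap (PrimeSpectrum.comap (algebraMap C E)) :=
    PrimeSpectrum.isOpenMap_comap_of_hasGoingDown_of_finitePresentation
  have hclosed : IsClosedMap (PrimeSpectrum.comap (algebraMap C E)) :=
    PrimeSpectrum.isClosedMap_comap_of_isIntegral _ (algebraMap_isIntegral_iff.mpr inferInstance)
  have hclopenD : IsClopen (PrimeSpectrum.basicOpen e'' : Set (PrimeSpectrum E)) :=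
    PrimeSpectrum.isClopen_iff.mpr ⟨e'', hidem, rfl⟩
  have hU : IsClopen (PrimeSpectrum.comap (algebraMap C E) ''
      (PrimeSpectrum.basicOpen e'' : Set (PrimeSpectrum E))) :=
    ⟨hclosed _ hclopenD.1, hopen _ hclopenD.2⟩
  obtain ⟨e, hee, hUe⟩ := PrimeSpectrum.isClopen_iff.mp hU
  -- e ∈ 𝔞
  have he𝔞 : e ∈ 𝔞 := by
    apply idem_mem_of_mem_radical 𝔞 hee
    rw [Ideal.radical_eq_sInf, Ideal.mem_sInf]
    rintro x ⟨hx𝔞, hxp⟩
    by_contra hex
    have hxU : (⟨x, hxp⟩ : PrimeSpectrum C) ∈ (PrimeSpectrum.basicOpen e : Set (PrimeSpectrum C)) :=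
      (PrimeSpectrum.mem_basicOpen e ⟨x, hxp⟩).mpr hex
    rw [← hUe] at hxU
    obtain ⟨x', hx'D, hx'⟩ := hxU
    apply (PrimeSpectrum.mem_basicOpen e'' x').mp hx'D
    have hle : Ideal.map (algebraMap C E) 𝔞 ≤ x'.asIdeal := by
      rw [Ideal.map_le_iff_le_comap]
      intro a ha
      have h1 : a ∈ (PrimeSpectrum.comap (algebraMap C E) x').asIdeal := by
        rw [hx']
        exact hx𝔞 ha
      exact h1
    exact hle hmem
  -- f := algebraMap e
  have hf : algebraMap C E e * algebraMap C E e = algebraMap C E e := by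
    rw [← map_mul, hee.eq]
  have hfe : algebraMap C E e * e'' = algebraMap C E e :=
    hmax _ hf (Ideal.mem_map_of_mem _ he𝔞)
  -- D(e'') ⊆ D(f)
  have hsub : ∀ x' : PrimeSpectrum E, e'' ∉ x'.asIdeal → algebraMap C E e ∉ x'.asIdeal := by
    intro x' hx' hfx
    have h1 : PrimeSpectrum.comap (algebraMap C E) x' ∈
        (PrimeSpectrum.basicOpen e : Set (PrimeSpectrum C)) := by
      rw [← hUe]
      exact ⟨x', (PrimeSpectrum.mem_basicOpen e'' x').mpr hx', rfl⟩
    exact (PrimeSpectrum.mem_basicOpen e _).mp h1 hfx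
  -- e'' * (1 - f) = 0
  have hg : e'' * (1 - algebraMap C E e) = 0 := by
    have hgi : IsIdempotentElem (e'' * (1 - algebraMap C E e)) := by
      show e'' * (1 - algebraMap C E e) * (e'' * (1 - algebraMap C E e)) = _
      have e1 : e'' * (1 - algebraMap C E e) * (e'' * (1 - algebraMap C E e)) =
          (e'' * e'') * (1 - algebraMap C E e - algebraMap C E e +
            algebraMap C E e * algebraMap C E e) := by ring
      rw [e1, he, hf]
      ring
    apply hgi.eq_zero_of_isNilpotent
    rw [← mem_nilradical, nilradical_eq_sInf, Ideal.mem_sInf]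
    intro P hP
    haveI : P.IsPrime := hP
    by_cases h1 : e'' ∈ P
    · exact Ideal.mul_mem_right _ _ h1
    · have h2 := hsub ⟨P, hP⟩ h1
      have h3 : algebraMap C E e * (1 - algebraMap C E e) ∈ P := by
        have e2 : algebraMap C E e * (1 - algebraMap C E e) = 0 := by
          rw [mul_sub, mul_one, hf, sub_self]
        rw [e2]
        exact zero_mem _
      rcases (Ideal.IsPrime.mem_or_mem hP h3) with h4 | h4
      · exact absurd h4 h2
      · exact Ideal.mul_mem_left _ _ h4
  refine ⟨e, hee, he𝔞, ?_⟩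
  have h5 : e'' = e'' * algebraMap C E e := by
    have e3 : e'' * (1 - algebraMap C E e) = e'' - e'' * algebraMap C E e := by ring
    rw [e3] at hg
    exact sub_eq_zero.mp hg
  rw [h5, mul_comm]
  exact hfe.symm ▸ rfl

end Desc

section K

variable {B : Type u} [CommRing B] {M : Type u} [CommGroup M]
variable {D : Type u} [CommRing D] [HopfAlgebra B D]
variable (φ : D →ₐc[B] MonoidAlgebra B M)

lemma exists_linear_section (hsurj : Function.Surjective φ) :
    ∃ s : MonoidAlgebra B M →ₗ[B] D, ∀ b, φ (s b) = b := by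
  classical
  have hpre : ∀ m : M, ∃ c : D, φ c = MonoidAlgebra.single m (1 : B) := fun m => hsurj _
  choose cm hcm using hpre
  obtain ⟨s, hs⟩ : ∃ s : MonoidAlgebra B M →ₗ[B] D,
      ∀ m r, s (MonoidAlgebra.single m r) = r • cm m := by
    refine ⟨(Finsupp.linearCombination B cm) ∘ₗ
      (MonoidAlgebra.coeffLinearEquiv B).toLinearMap, ?_⟩
    intro m r
    show Finsupp.linearCombination B cm ((MonoidAlgebra.single m r).coeff) = _
    rw [MonoidAlgebra.coeff_single, Finsupp.linearCombination_single]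
  refine ⟨s, fun b => ?_⟩
  induction b using MonoidAlgebra.induction_linear with
  | zero => rw [map_zero, map_zero]
  | add x y hx hy => rw [map_add, map_add, hx, hy]
  | single m r => rw [hs, map_smul, hcm, MonoidAlgebra.smul_single, smul_eq_mul, mul_one]

/-- The kernel of `φ ⊗ φ`. -/
lemma compl_tmul_compl_mul_eq_zero (hsurj : Function.Surjective φ) (e : D)
    (hKe : ∀ y, φ y = 0 → y * e = y) (t : D ⊗[B] D)
    (ht : TensorProduct.map (φ : D →ₐ[B] MonoidAlgebra B M).toLinearMap
      (φ : D →ₐ[B] MonoidAlgebra B M).toLinearMap t = 0) :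
    ((1 - e) ⊗ₜ[B] (1 - e)) * t = 0 := by
  obtain ⟨s, hs⟩ := exists_linear_section φ hsurj
  obtain ⟨ψ, hψ⟩ : ∃ ψ : MonoidAlgebra B M →ₗ[B] D, ∀ b, ψ b = (1 - e) * s b :=
    ⟨(LinearMap.mulLeft B (1 - e)) ∘ₗ s, fun b => rfl⟩
  have hid : ∀ y : D, (1 - e) * y = ψ (φ y) := by
    intro y
    have h1 : φ (y - s (φ y)) = 0 := by rw [map_sub, hs, sub_self]
    have h2 := hKe _ h1
    rw [hψ]
    have h3 : (1 - e) * y - (1 - e) * s (φ y) = (y - s (φ y)) - (y - s (φ y)) * e := by ring
    rw [h2, sub_self] at h3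
    exact sub_eq_zero.mp h3
  have key : ∀ t : D ⊗[B] D, ((1 - e) ⊗ₜ[B] (1 - e)) * t =
      (TensorProduct.map ψ ψ) (TensorProduct.map (φ : D →ₐ[B] MonoidAlgebra B M).toLinearMap
        (φ : D →ₐ[B] MonoidAlgebra B M).toLinearMap t) := by
    intro t
    induction t using TensorProduct.induction_on with
    | zero => rw [mul_zero, map_zero, map_zero]
    | tmul y y' =>
      rw [Algebra.TensorProduct.tmul_mul_tmul, hid, hid]
      rfl
    | add z z' hz hz' => rw [mul_add, map_add, map_add, hz, hz']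
  rw [key t, ht, map_zero]

lemma comul_mul_compl_eq_zero (hsurj : Function.Surjective φ) (e : D) (hφe : φ e = 0)
    (hKe : ∀ y, φ y = 0 → y * e = y) :
    ((1 - e) ⊗ₜ[B] (1 - e)) * Coalgebra.comul (R := B) e = 0 := by
  apply compl_tmul_compl_mul_eq_zero φ hsurj e hKe
  have h := CoalgHomClass.map_comp_comul_apply φ e
  rw [hφe, map_zero] at h
  exact h

end K

section Same

variable {B : Type u} [CommRing B] {M : Type u} [CommGroup M]
variable {D : Type u} [CommRing D] [HopfAlgebra B D]
variable {P : Type u} [CommRing P] [Bialgebra B P]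

/-- Two surjective bialgebra maps with the same idempotent kernel have isomorphic targets. -/
theorem nonempty_bialgEquiv_of_same_kernel (φ : D →ₐc[B] MonoidAlgebra B M)
    (hsurj : Function.Surjective φ) (e : D) (hφe : φ e = 0)
    (hKe : ∀ y, φ y = 0 → y * e = y)
    (Φ : D →ₐc[B] P) (hΦsurj : Function.Surjective Φ) (hΦe : Φ e = 0)
    (hΦK : ∀ z, Φ z = 0 → (1 - e) * z = 0) :
    Nonempty (P ≃ₐc[B] MonoidAlgebra B M) := by
  obtain ⟨s, hs⟩ := exists_linear_section φ hsurj
  obtain ⟨χ₀, hχ₀⟩ : ∃ χ₀ : MonoidAlgebra B M →ₗ[B] P, ∀ b, χ₀ b = Φ (s b) :=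
    ⟨(Φ : D →ₐ[B] P).toLinearMap ∘ₗ s, fun b => rfl⟩
  have hχφ : ∀ y, χ₀ (φ y) = Φ y := by
    intro y
    have h1 : φ (y - s (φ y)) = 0 := by rw [map_sub, hs, sub_self]
    have h2 := hKe _ h1
    have h3 : Φ (y - s (φ y)) = 0 := by rw [← h2, map_mul, hΦe, mul_zero]
    rw [map_sub, sub_eq_zero] at h3
    rw [hχ₀, ← h3]
  have hone : χ₀ 1 = 1 := by
    have h := hχφ 1
    rw [map_one φ, map_one Φ] at h
    exact h
  have hmul : ∀ b b', χ₀ (b * b') = χ₀ b * χ₀ b' := by
    intro b b'
    obtain ⟨y, rfl⟩ := hsurj b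
    obtain ⟨y', rfl⟩ := hsurj b'
    rw [← map_mul, hχφ, hχφ, hχφ, map_mul]
  obtain ⟨χ, hχ⟩ : ∃ χ : MonoidAlgebra B M →ₐ[B] P, ∀ b, χ b = χ₀ b :=
    ⟨AlgHom.ofLinearMap χ₀ hone hmul, fun b => rfl⟩
  have hχφ' : ∀ y, χ (φ y) = Φ y := fun y => by rw [hχ, hχφ]
  have hcounit : (Bialgebra.counitAlgHom B P).comp χ =
      Bialgebra.counitAlgHom B (MonoidAlgebra B M) := by
    apply AlgHom.ext
    intro b
    obtain ⟨y, rfl⟩ := hsurj b
    show Coalgebra.counit (R := B) (χ (φ y)) = Coalgebra.counit (R := B) (φ y)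
    rw [hχφ', CoalgHomClass.counit_comp_apply, CoalgHomClass.counit_comp_apply]
  have htens : ∀ t : D ⊗[B] D, (Algebra.TensorProduct.map χ χ)
      (TensorProduct.map (φ : D →ₐ[B] MonoidAlgebra B M).toLinearMap
        (φ : D →ₐ[B] MonoidAlgebra B M).toLinearMap t) =
      TensorProduct.map (Φ : D →ₐ[B] P).toLinearMap (Φ : D →ₐ[B] P).toLinearMap t := by
    intro t
    induction t using TensorProduct.induction_on with
    | zero => rw [map_zero, map_zero, map_zero]
    | tmul y y' =>
      show (χ (φ y)) ⊗ₜ[B] (χ (φ y')) = (Φ y) ⊗ₜ[B] (Φ y')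
      rw [hχφ', hχφ']
    | add z z' hz hz' => rw [map_add, map_add, map_add, hz, hz']
  have hcomul : (Algebra.TensorProduct.map χ χ).comp
      (Bialgebra.comulAlgHom B (MonoidAlgebra B M)) = (Bialgebra.comulAlgHom B P).comp χ := by
    apply AlgHom.ext
    intro b
    obtain ⟨y, rfl⟩ := hsurj b
    show (Algebra.TensorProduct.map χ χ) (Coalgebra.comul (R := B) (φ y)) =
      Coalgebra.comul (R := B) (χ (φ y))
    rw [hχφ', ← CoalgHomClass.map_comp_comul_apply φ y, ← CoalgHomClass.map_comp_comul_apply Φ y]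
    exact htens _
  obtain ⟨χb, hχb⟩ : ∃ χb : MonoidAlgebra B M →ₐc[B] P, ∀ b, χb b = χ b :=
    ⟨BialgHom.ofAlgHom χ hcounit hcomul, fun b => rfl⟩
  have hbij : Function.Bijective χb := by
    constructor
    · rw [injective_iff_map_eq_zero]
      intro b hb
      obtain ⟨y, rfl⟩ := hsurj b
      rw [hχb, hχφ'] at hb
      have h1 := hΦK y hb
      have h2 : y = e * y := by
        have e1 : (1 - e) * y = y - e * y := by ring
        rw [e1] at h1
        exact sub_eq_zero.mp h1
      rw [h2, map_mul, hφe, zero_mul]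
    · intro p
      obtain ⟨y, rfl⟩ := hΦsurj p
      exact ⟨φ y, by rw [hχb, hχφ']⟩
  exact ⟨(BialgEquiv.ofBijective χb hbij).symm⟩

end Same

end Groth.Agent.Lib.Helper6.FibConn
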