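import Mathlib
import Groth.Prelude.Def_SGA3b
import Groth.Agent.Lib.Helper6.FibConn.FC6
import Groth.Agent.Lib.Helper6.FibConn.FC4b

/-!
# The open and closed subgroup of multiplicative type over a complete base (helper6)

**SGA 3, X 3.?** (affine form): over a complete Noetherian base `R`, an affine group `H = Spec A` of
finite type, flat at the points of `H₀`, with `H₀` isotrivial of multiplicative type, has an open
and closed subgroup `G = V(e)` which is isotrivial of multiplicative type with `G₀ = H₀`.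

The idempotent is found over a finite étale cover `R'` (as the largest idempotent of `I C'`) and
descended topologically (`exists_idem_descent`).
-/

set_option autoImplicit false
set_option linter.unusedSectionVars false
set_option linter.unusedVariables false
set_option linter.unusedSimpArgs false
set_option linter.style.haveILetI false
set_option linter.overlappingInstances false
set_option maxHeartbeats 1600000
set_option synthInstance.maxHeartbeats 400000

universe u
open TensorProduct SGA3b Coalgebra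
open Groth.Agent.Lib.Helper6.MultType Groth.Agent.Lib.Helper6.Lift
open Groth.Agent.Lib.Helper6.IsoNil Groth.Agent.Lib.Helper6.QIso
open Groth.Agent.Lib.Helper6.IsoJac Groth.Agent.Lib.Helper6.Isotriv

namespace Groth.Agent.Lib.Helper6.FibConn

section FlatBC

variable {R : Type u} [CommRing R] (I : Ideal R) (R' : Type u) [CommRing R'] [Algebra R R']
variable (A : Type u) [CommRing A] [Algebra R A]

/-- Base change of the flatness of the reductions. -/
lemma flat_quot_baseChange (k : ℕ) [Module.Flat (R ⧸ I ^ k) ((R ⧸ I ^ k) ⊗[R] A)] :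
    Module.Flat (R' ⧸ (I.map (algebraMap R R')) ^ k)
      ((R' ⧸ (I.map (algebraMap R R')) ^ k) ⊗[R'] (R' ⊗[R] A)) := by
  letI alg : Algebra (R ⧸ I ^ k) (R' ⧸ (I.map (algebraMap R R')) ^ k) :=
    (Ideal.Quotient.lift (I ^ k)
      ((Ideal.Quotient.mk ((I.map (algebraMap R R')) ^ k)).comp (algebraMap R R')) (by
        intro x hx
        rw [RingHom.comp_apply, Ideal.Quotient.eq_zero_iff_mem, ← Ideal.map_pow]
        exact Ideal.mem_map_of_mem _ hx)).toAlgebra
  haveI : IsScalarTower R (R ⧸ I ^ k) (R' ⧸ (I.map (algebraMap R R')) ^ k) :=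
    IsScalarTower.of_algebraMap_eq (fun r => rfl)
  have e1 := Algebra.TensorProduct.cancelBaseChange R R' (R' ⧸ (I.map (algebraMap R R')) ^ k)
    (R' ⧸ (I.map (algebraMap R R')) ^ k) A
  have e2 := Algebra.TensorProduct.cancelBaseChange R (R ⧸ I ^ k)
    (R' ⧸ (I.map (algebraMap R R')) ^ k) (R' ⧸ (I.map (algebraMap R R')) ^ k) A
  exact Module.Flat.of_linearEquiv (e1.toLinearEquiv.trans e2.symm.toLinearEquiv)

end FlatBC

section Main

variable {R : Type u} [CommRing R]

theorem exists_clopen_isotrivial_subgroup [IsNoetherianRing R] (I : Ideal R)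
    [IsAdicComplete I R]
    {A : Type u} [CommRing A] [HopfAlgebra R A] (hft : Algebra.FiniteType R A)
    (hfl : ∀ (q : Ideal A) [q.IsPrime], Ideal.map (algebraMap R A) I ≤ q →
      Module.Flat R (Localization.AtPrime q))
    (h0 : IsIsotrivial (R ⧸ I) ((R ⧸ I) ⊗[R] A)) :
    ∃ e : A, IsIdempotentElem e ∧ e ∈ Ideal.map (algebraMap R A) I ∧
      ∃ _ : (Ideal.span {e}).IsHopfIdeal R, IsIsotrivial R (A ⧸ Ideal.span {e}) := by
  obtain ⟨R₀', _, _, hét₀, hfin₀, hff₀, hd₀⟩ := h0
  haveI := hét₀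
  haveI := hfin₀
  haveI := hff₀
  obtain ⟨R', _, _, hfin, hét, ⟨θ⟩⟩ := Groth.Agent.Helper7.FinEtaleLift.S0532_main R I R₀'
  haveI := hfin
  haveI := hét
  letI : Algebra R R₀' := ((algebraMap (R ⧸ I) R₀').comp (Ideal.Quotient.mk I)).toAlgebra
  haveI : IsScalarTower R (R ⧸ I) R₀' := IsScalarTower.of_algebraMap_eq' rfl
  obtain ⟨q, hq⟩ : ∃ q : R' →+* R₀', ∀ x, q x = θ ((1 : R ⧸ I) ⊗ₜ[R] x) :=
    ⟨(θ : _ →+* R₀').comp
      (Algebra.TensorProduct.includeRight : R' →ₐ[R] (R ⧸ I) ⊗[R] R').toRingHom, fun x => rfl⟩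
  have hcomp : ∀ r : R, q (algebraMap R R' r) =
      algebraMap (R ⧸ I) R₀' (Ideal.Quotient.mk I r) := by
    intro r
    have h3 : (1 : R ⧸ I) ⊗ₜ[R] (algebraMap R R' r) =
        (Ideal.Quotient.mk I r) ⊗ₜ[R] (1 : R') := by
      rw [Algebra.algebraMap_eq_smul_one, ← TensorProduct.smul_tmul, Algebra.smul_def, mul_one]
      rfl
    rw [hq, h3, ← θ.commutes (Ideal.Quotient.mk I r), Algebra.TensorProduct.algebraMap_apply]
    rfl
  haveI hffR' : Module.FaithfullyFlat R R' :=
    faithfullyFlat_of_lift_jac I (IsAdicComplete.le_jacobson_bot I) q hcomp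
  haveI : IsNoetherianRing R' := IsNoetherianRing.of_finite R R'
  haveI : IsAdicComplete I R' := Groth.Agent.Lib.Helper4.FFAlg1.isAdicComplete_of_finite I
  haveI : IsAdicComplete (I.map (algebraMap R R')) R' :=
    (IsAdicComplete.map_algebraMap_iff I R').mpr inferInstance
  have hd1 : IsDiag R₀' (R₀' ⊗[R] A) := IsDiag.of_tower (R ⧸ I) R₀' hd₀
  obtain ⟨τ, hτ⟩ : ∃ τ : R₀' →+* (R' ⧸ I.map (algebraMap R R')),
      ∀ r : R, τ (algebraMap R R₀' r) = algebraMap R (R' ⧸ I.map (algebraMap R R')) r := by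
    obtain ⟨f, hf⟩ : ∃ f : (R ⧸ I) →ₐ[R] (R' ⧸ I.map (algebraMap R R')),
        ∀ r : R, f (Ideal.Quotient.mk I r) = algebraMap R (R' ⧸ I.map (algebraMap R R')) r := by
      refine ⟨Ideal.Quotient.liftₐ I (Algebra.ofId R _) (fun r hr => ?_), fun r => rfl⟩
      rw [Algebra.ofId_apply, IsScalarTower.algebraMap_apply R R' (R' ⧸ I.map (algebraMap R R')),
        Ideal.Quotient.algebraMap_eq, Ideal.Quotient.eq_zero_iff_mem]
      exact Ideal.mem_map_of_mem _ hr
    obtain ⟨L, hL⟩ : ∃ L : (R ⧸ I) ⊗[R] R' →ₐ[R] (R' ⧸ I.map (algebraMap R R')),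
        ∀ (a : R ⧸ I) (x : R'), L (a ⊗ₜ[R] x) = f a * Ideal.Quotient.mk _ x :=
      ⟨Algebra.TensorProduct.lift f (Ideal.Quotient.mkₐ R _) (fun _ _ => Commute.all _ _),
        fun a x => by rw [Algebra.TensorProduct.lift_tmul]; rfl⟩
    refine ⟨L.toRingHom.comp (θ.symm : R₀' →+* _), ?_⟩
    intro r
    show L (θ.symm (algebraMap R R₀' r)) = _
    have h4 : algebraMap R R₀' r = algebraMap (R ⧸ I) R₀' (Ideal.Quotient.mk I r) := rfl
    rw [h4, θ.symm.commutes, Algebra.TensorProduct.algebraMap_apply, hL, map_one, mul_one]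
    exact hf r
  have hd2 : IsDiag (R' ⧸ I.map (algebraMap R R')) ((R' ⧸ I.map (algebraMap R R')) ⊗[R] A) :=
    isDiag_transfer τ hτ hd1
  have hd3 : IsDiag (R' ⧸ I.map (algebraMap R R'))
      ((R' ⧸ I.map (algebraMap R R')) ⊗[R'] (R' ⊗[R] A)) :=
    IsDiag.to_tower R' (R' ⧸ I.map (algebraMap R R')) hd2
  haveI := hft
  have hft' : Algebra.FiniteType R' (R' ⊗[R] A) := inferInstance
  have hflq : ∀ n : ℕ, Module.Flat (R ⧸ I ^ (n + 1)) ((R ⧸ I ^ (n + 1)) ⊗[R] A) := fun n =>
    Groth.Agent.Lib.Helper6.HomNil.flat_quot_of_flat_near I (I ^ (n + 1)) A (n + 1) le_rfl hfl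
  have hflq' : ∀ n : ℕ, Module.Flat (R' ⧸ (I.map (algebraMap R R')) ^ (n + 1))
      ((R' ⧸ (I.map (algebraMap R R')) ^ (n + 1)) ⊗[R'] (R' ⊗[R] A)) := by
    intro n
    haveI := hflq n
    exact flat_quot_baseChange I R' A (n + 1)
  obtain ⟨M, _, φ, e', hsurj, hee, hφe, hKe, hker⟩ :=
    exists_surj_ker_idem'' (I.map (algebraMap R R')) hft' hflq' hd3
  -- maximality of `e'`
  have hA : ∀ f : R' ⊗[R] A, f * f = f →
      f ∈ (I.map (algebraMap R R')) • (⊤ : Submodule R' (R' ⊗[R] A)) → f * e' = f := by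
    intro f hff hfI
    apply hKe
    apply idem_eq_zero_of_mem_smul_top_monoidAlgebra (I.map (algebraMap R R'))
    · rw [← map_mul, hff]
    · exact linear_mem_smul_top _ (φ : (R' ⊗[R] A) →ₐ[R'] MonoidAlgebra R' M).toLinearMap hfI
  -- comparison of ideals
  have hb1 : ∀ y : R' ⊗[R] A,
      y ∈ (I.map (algebraMap R R')) • (⊤ : Submodule R' (R' ⊗[R] A)) ↔
      y ∈ Ideal.map (algebraMap R (R' ⊗[R] A)) I := by
    intro y
    rw [Ideal.smul_top_eq_map, Submodule.restrictScalars_mem, Ideal.map_map,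
      ← IsScalarTower.algebraMap_eq]
  have hb2 : ∀ y : R' ⊗[R] A, y ∈ Ideal.map (algebraMap R (R' ⊗[R] A)) I →
      Algebra.TensorProduct.comm R R' A y ∈ Ideal.map (algebraMap R (A ⊗[R] R')) I := by
    intro y hy
    have h1 := Ideal.mem_map_of_mem (Algebra.TensorProduct.comm R R' A).toAlgHom.toRingHom hy
    rw [Ideal.map_map] at h1
    have h2 : ((Algebra.TensorProduct.comm R R' A).toAlgHom.toRingHom).comp
        (algebraMap R (R' ⊗[R] A)) = algebraMap R (A ⊗[R] R') :=
      (Algebra.TensorProduct.comm R R' A).toAlgHom.comp_algebraMap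
    rw [h2] at h1
    exact h1
  have hb3 : ∀ z : A ⊗[R] R', z ∈ Ideal.map (algebraMap R (A ⊗[R] R')) I →
      (Algebra.TensorProduct.comm R R' A).symm z ∈ Ideal.map (algebraMap R (R' ⊗[R] A)) I := by
    intro z hz
    have h1 := Ideal.mem_map_of_mem
      (Algebra.TensorProduct.comm R R' A).symm.toAlgHom.toRingHom hz
    rw [Ideal.map_map] at h1
    have h2 : ((Algebra.TensorProduct.comm R R' A).symm.toAlgHom.toRingHom).comp
        (algebraMap R (A ⊗[R] R')) = algebraMap R (R' ⊗[R] A) :=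
      (Algebra.TensorProduct.comm R R' A).symm.toAlgHom.comp_algebraMap
    rw [h2] at h1
    exact h1
  have hIE : Ideal.map (algebraMap A (A ⊗[R] R')) (Ideal.map (algebraMap R A) I) =
      Ideal.map (algebraMap R (A ⊗[R] R')) I := by
    rw [Ideal.map_map, ← IsScalarTower.algebraMap_eq]
  -- descent of the idempotent
  obtain ⟨e, hee0, he𝔞, hmap⟩ := exists_idem_descent (C := A) (E := A ⊗[R] R')
    (Ideal.map (algebraMap R A) I) (Algebra.TensorProduct.comm R R' A e')
    (by rw [← map_mul, hee])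
    (by rw [hIE]; exact hb2 e' ((hb1 e').mp (hker e' hφe)))
    (by
      intro f hff hfI
      rw [hIE] at hfI
      have h1 := hb3 f hfI
      have h2 : ((Algebra.TensorProduct.comm R R' A).symm f) *
          ((Algebra.TensorProduct.comm R R' A).symm f) =
          (Algebra.TensorProduct.comm R R' A).symm f := by rw [← map_mul, hff]
      have h3 := hA _ h2 ((hb1 _).mpr h1)
      have h4 := congrArg (Algebra.TensorProduct.comm R R' A) h3
      rwa [map_mul, AlgEquiv.apply_symm_apply] at h4)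
  have he'e : e' = (1 : R') ⊗ₜ[R] e := by
    apply (Algebra.TensorProduct.comm R R' A).injective
    rw [← hmap, Algebra.TensorProduct.comm_tmul, Algebra.TensorProduct.algebraMap_apply,
      Algebra.algebraMap_self_apply]
  have hinj1 : Function.Injective (TensorProduct.mk R R' A 1) :=
    Module.FaithfullyFlat.tensorProduct_mk_injective (A := R) (B := R') A
  -- the counit
  have hcu : Coalgebra.counit (R := R) e = 0 := by
    have h1 := counit_one_tmul R R' A e
    rw [← he'e, ← CoalgHomClass.counit_comp_apply φ e', hφe, map_zero] at h1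
    apply FaithfulSMul.algebraMap_injective R R'
    rw [← h1, map_zero]
  -- the antipode
  have hant : HopfAlgebra.antipode R e * e = HopfAlgebra.antipode R e := by
    have h1 : φ (HopfAlgebra.antipode R' e') = 0 := by
      rw [bialgHom_antipode φ e', hφe, map_zero]
    have h2 := hKe _ h1
    have h3 : HopfAlgebra.antipode R' ((1 : R') ⊗ₜ[R] e) =
        (1 : R') ⊗ₜ[R] HopfAlgebra.antipode R e := by
      rw [TensorProduct.antipode_def, TensorProduct.AlgebraTensorModule.map_tmul,
        HopfAlgebra.antipode_one]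
    rw [he'e, h3, Algebra.TensorProduct.tmul_mul_tmul, one_mul] at h2
    exact hinj1 h2
  -- the comultiplication
  have hcomul : ((1 - e) ⊗ₜ[R] (1 - e)) * Coalgebra.comul (R := R) e = 0 := by
    have h1 := comul_mul_compl_eq_zero φ hsurj e' hφe hKe
    have h2 : (1 : R' ⊗[R] A) - e' = (1 : R') ⊗ₜ[R] (1 - e) := by
      rw [he'e, TensorProduct.tmul_sub]
      rfl
    rw [h2, he'e, comul_one_tmul R R' A e, ← T₀_tmul, ← map_mul] at h1
    rw [Groth.Agent.Lib.Helper6.FlatDef.T₀_eq_distrib] at h1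
    have h3 := (LinearEquiv.map_eq_zero_iff _).mp h1
    exact Module.FaithfullyFlat.tensorProduct_mk_injective (A := R) (B := R') (A ⊗[R] A)
      (h3.trans (map_zero _).symm)
  -- the Hopf ideal
  have hΨ : ∀ x ∈ Ideal.span {e},
      ((Algebra.TensorProduct.map (Ideal.Quotient.mkₐ R (Ideal.span {e}))
        (Ideal.Quotient.mkₐ R (Ideal.span {e}))).comp (Bialgebra.comulAlgHom R A)) x = 0 := by
    intro x hx
    obtain ⟨a, rfl⟩ := Ideal.mem_span_singleton'.mp hx
    have hq1 : Ideal.Quotient.mkₐ R (Ideal.span {e}) (1 - e) = 1 := by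
      rw [map_sub, map_one]
      have : Ideal.Quotient.mkₐ R (Ideal.span {e}) e = 0 :=
        Ideal.Quotient.eq_zero_iff_mem.mpr (Ideal.mem_span_singleton_self e)
      rw [this, sub_zero]
    have h1 : (Algebra.TensorProduct.map (Ideal.Quotient.mkₐ R (Ideal.span {e}))
        (Ideal.Quotient.mkₐ R (Ideal.span {e}))) (Coalgebra.comul (R := R) e) = 0 := by
      have h2 := congrArg (Algebra.TensorProduct.map (Ideal.Quotient.mkₐ R (Ideal.span {e}))
        (Ideal.Quotient.mkₐ R (Ideal.span {e}))) hcomul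
      rw [map_mul, Algebra.TensorProduct.map_tmul, hq1, map_zero] at h2
      rw [← h2]
      exact (one_mul _).symm
    rw [map_mul, AlgHom.comp_apply (φ₂ := Bialgebra.comulAlgHom R A) (p := e)]
    show _ * (Algebra.TensorProduct.map (Ideal.Quotient.mkₐ R (Ideal.span {e}))
        (Ideal.Quotient.mkₐ R (Ideal.span {e}))) (Coalgebra.comul (R := R) e) = 0
    rw [h1, mul_zero]
  haveI hCoid : ((Ideal.span {e}).restrictScalars R).IsCoideal := by
    constructor
    · intro x hx
      obtain ⟨a, rfl⟩ := Ideal.mem_span_singleton'.mp hx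
      rw [Bialgebra.counit_mul, hcu, mul_zero]
    · intro x hx
      exact hΨ x hx
  have hHopf : (Ideal.span {e}).IsHopfIdeal R := by
    constructor
    intro x hx
    obtain ⟨a, rfl⟩ := Ideal.mem_span_singleton'.mp hx
    rw [HopfAlgebra.antipode_mul_distrib, ← hant, ← mul_assoc]
    exact Ideal.mul_mem_left _ _ (Ideal.mem_span_singleton_self e)
  haveI := hHopf
  -- the quotient is isotrivial
  obtain ⟨Φ, hΦ⟩ : ∃ Φ : (R' ⊗[R] A) →ₐc[R'] (R' ⊗[R] (A ⧸ Ideal.span {e})),
      Φ = Bialgebra.TensorProduct.map (BialgHom.id R' R')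
        (Bialgebra.Quotient.mkBialgHom (R := R) (Ideal.span {e})) := ⟨_, rfl⟩
  have hΦsurj : Function.Surjective Φ := by
    rw [hΦ]
    exact Groth.Agent.Lib.Helper6.MTKer2.map_surj
      (Bialgebra.Quotient.mkBialgHom (R := R) (Ideal.span {e})) R' Ideal.Quotient.mk_surjective
  have hΦe : Φ e' = 0 := by
    rw [hΦ, he'e]
    show (1 : R') ⊗ₜ[R] (Ideal.Quotient.mk (Ideal.span {e}) e) = 0
    rw [Ideal.Quotient.eq_zero_iff_mem.mpr (Ideal.mem_span_singleton_self e),
      TensorProduct.tmul_zero]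
  have hΦK : ∀ z, Φ z = 0 → (1 - e') * z = 0 := by
    intro z hz
    have h1 : ∀ z : R' ⊗[R] A,
        Algebra.TensorProduct.tensorQuotientEquiv (R := R) R' A R' (Ideal.span {e}) (Φ z) =
          Ideal.Quotient.mk _ z := by
      intro z
      induction z using TensorProduct.induction_on with
      | zero => rw [map_zero, map_zero, map_zero]
      | tmul r a =>
        rw [hΦ]
        rfl
      | add x y hx hy => rw [map_add, map_add, map_add, hx, hy]
    have h2 := h1 z
    rw [hz, map_zero] at h2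
    have h3 : z ∈ Ideal.map (Algebra.TensorProduct.includeRight (A := R') (R := R))
        (Ideal.span {e}) := Ideal.Quotient.eq_zero_iff_mem.mp h2.symm
    rw [Ideal.map_span, Set.image_singleton] at h3
    obtain ⟨w, rfl⟩ := Ideal.mem_span_singleton'.mp h3
    have h4 : (Algebra.TensorProduct.includeRight (A := R') (R := R)) e = e' := he'e.symm
    rw [h4]
    have e5 : (1 - e') * (w * e') = w * (e' - e' * e') := by ring
    rw [e5, hee, sub_self, mul_zero]
  obtain ⟨ε⟩ := nonempty_bialgEquiv_of_same_kernel φ hsurj e' hφe hKe Φ hΦsurj hΦe hΦK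
  exact ⟨e, hee0, he𝔞, hHopf,
    ⟨R', inferInstance, inferInstance, hét, hfin, hffR', ⟨M, inferInstance, ⟨ε⟩⟩⟩⟩

end Main

end Groth.Agent.Lib.Helper6.FibConn
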