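import Mathlib
import Groth.Prelude.Def_SGA3b
import Groth.Agent.Lib.Helper6.MultType.Basic

/-!
# Diagonalisable groups of a given type; tori (helper6)

* `IsDiagOf R A N`: `A ≃ R[N]` as bialgebras, with base change lemmas.
* `mulEquiv_of_bialgEquiv`: over a nontrivial ring, the type of a diagonalisable group is unique.
* `isTorus_of_isIsotrivial_of_mod`: an isotrivial group over a ring `R`, which is a torus modulo
  an ideal contained in the Jacobson radical, is a torus.
-/

set_option autoImplicit false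
set_option linter.unusedSectionVars false
set_option linter.unusedVariables false
set_option linter.unusedSimpArgs false
set_option linter.style.haveILetI false
set_option linter.overlappingInstances false
set_option maxHeartbeats 800000
set_option synthInstance.maxHeartbeats 400000

universe u v w
open TensorProduct SGA3b Coalgebra
open Groth.Agent.Lib.Helper6.MultType

namespace Groth.Agent.Lib.Helper6.FibConn

section BC

variable (R : Type u) [CommRing R] (R' : Type u) [CommRing R'] [Algebra R R']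

/-- `R' ⊗[R] R[M] ≃ R'[M]` as bialgebras (universe polymorphic in `M`). -/
noncomputable def scalarTensorBialgEquiv' (M : Type v) [CommGroup M] :
    R' ⊗[R] MonoidAlgebra R M ≃ₐc[R'] MonoidAlgebra R' M :=
  BialgEquiv.ofAlgEquiv (MonoidAlgebra.scalarTensorEquiv R R')
    (by ext x; simp)
    (by ext x; simp)

variable {R} in
/-- Base change of a bialgebra equivalence (universe polymorphic). -/
noncomputable def baseChangeBialgEquiv' {A : Type v} {B : Type w} [CommRing A] [Bialgebra R A]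
    [CommRing B] [Bialgebra R B] (e : A ≃ₐc[R] B) : R' ⊗[R] A ≃ₐc[R'] R' ⊗[R] B :=
  BialgEquiv.ofBialgHom (Bialgebra.TensorProduct.map (BialgHom.id R' R') (e : A →ₐc[R] B))
    (Bialgebra.TensorProduct.map (BialgHom.id R' R') (e.symm : B →ₐc[R] A))
    (by
      ext x
      induction x using TensorProduct.induction_on with
      | zero => simp only [map_zero]
      | tmul a b => simp
      | add y z hy hz => simp only [map_add, hy, hz])
    (by
      ext x
      induction x using TensorProduct.induction_on with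
      | zero => simp only [map_zero]
      | tmul a b => simp
      | add y z hy hz => simp only [map_add, hy, hz])

end BC

/-- Diagonalisable of type `N`. -/
def IsDiagOf (R : Type u) [CommRing R] (A : Type u) [CommRing A] [HopfAlgebra R A]
    (N : Type v) [CommGroup N] : Prop :=
  Nonempty (A ≃ₐc[R] MonoidAlgebra R N)

section DiagOf

variable {R : Type u} [CommRing R] {A : Type u} [CommRing A] [HopfAlgebra R A]
variable {N : Type v} [CommGroup N]

lemma IsDiagOf.baseChange (h : IsDiagOf R A N) (R' : Type u) [CommRing R'] [Algebra R R'] :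
    IsDiagOf R' (R' ⊗[R] A) N := by
  obtain ⟨e⟩ := h
  exact ⟨(baseChangeBialgEquiv' R' e).trans (scalarTensorBialgEquiv' R R' N)⟩

lemma IsDiagOf.of_tower (R' : Type u) [CommRing R'] [Algebra R R']
    (R'' : Type u) [CommRing R''] [Algebra R R''] [Algebra R' R''] [IsScalarTower R R' R'']
    (h : IsDiagOf R'' (R'' ⊗[R'] (R' ⊗[R] A)) N) : IsDiagOf R'' (R'' ⊗[R] A) N := by
  obtain ⟨e⟩ := h
  exact ⟨(cancelBaseChangeBialgEquiv R R' A R'').symm.trans e⟩

lemma IsDiagOf.to_tower (R' : Type u) [CommRing R'] [Algebra R R']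
    (R'' : Type u) [CommRing R''] [Algebra R R''] [Algebra R' R''] [IsScalarTower R R' R'']
    (h : IsDiagOf R'' (R'' ⊗[R] A) N) : IsDiagOf R'' (R'' ⊗[R'] (R' ⊗[R] A)) N := by
  obtain ⟨e⟩ := h
  exact ⟨(cancelBaseChangeBialgEquiv R R' A R'').trans e⟩

lemma isDiagOf_transfer {T T' : Type u} [CommRing T] [CommRing T'] [Algebra R T] [Algebra R T']
    (φ : T →+* T') (hφ : ∀ r, φ (algebraMap R T r) = algebraMap R T' r)
    (hd : IsDiagOf T (T ⊗[R] A) N) : IsDiagOf T' (T' ⊗[R] A) N := by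
  letI : Algebra T T' := φ.toAlgebra
  haveI : IsScalarTower R T T' := IsScalarTower.of_algebraMap_eq (fun r => (hφ r).symm)
  exact IsDiagOf.of_tower T T' (IsDiagOf.baseChange hd T')

attribute [local instance] Algebra.TensorProduct.rightAlgebra in
/-- A Hopf algebra split as a torus by a faithfully flat cover is a torus. -/
theorem isTorus_of_ff_chart (R' : Type u) [CommRing R'] [Algebra R R']
    [Module.FaithfullyFlat R R'] (n : ℕ)
    (hd : IsDiagOf R' (R' ⊗[R] A) (Multiplicative (Fin n → ℤ))) : IsTorus R A := by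
  refine ⟨{1}, by simp, ?_⟩
  intro f hf
  rw [Set.mem_singleton_iff] at hf
  subst hf
  refine ⟨Localization.Away (1 : R) ⊗[R] R', inferInstance, inferInstance, inferInstance, n, ?_⟩
  have h := IsDiagOf.to_tower (R := R) (Localization.Away (1 : R))
    (Localization.Away (1 : R) ⊗[R] R')
    (IsDiagOf.of_tower R' (Localization.Away (1 : R) ⊗[R] R')
      (IsDiagOf.baseChange hd (Localization.Away (1 : R) ⊗[R] R')))
  exact h

end DiagOf

section Types

lemma mulEquiv_of_bialgEquiv_field {Ω : Type u} [Field Ω] {M : Type v} {N : Type w}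
    [CommGroup M] [CommGroup N]
    (e : MonoidAlgebra Ω M ≃ₐc[Ω] MonoidAlgebra Ω N) : Nonempty (M ≃* N) := by
  have h1 : (e.symm : MonoidAlgebra Ω N →ₐc[Ω] MonoidAlgebra Ω M).comp
      (e : MonoidAlgebra Ω M →ₐc[Ω] MonoidAlgebra Ω N) = BialgHom.id Ω _ :=
    BialgHom.ext fun x => e.symm_apply_apply x
  have h2 : (e : MonoidAlgebra Ω M →ₐc[Ω] MonoidAlgebra Ω N).comp
      (e.symm : MonoidAlgebra Ω N →ₐc[Ω] MonoidAlgebra Ω M) = BialgHom.id Ω _ :=
    BialgHom.ext fun x => e.apply_symm_apply x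
  refine ⟨MonoidHom.toMulEquiv
    (MonoidAlgebra.mapDomainOfBialgHom (e : MonoidAlgebra Ω M →ₐc[Ω] MonoidAlgebra Ω N))
    (MonoidAlgebra.mapDomainOfBialgHom (e.symm : MonoidAlgebra Ω N →ₐc[Ω] MonoidAlgebra Ω M))
    ?_ ?_⟩
  · rw [← MonoidAlgebra.mapDomainOfBialgHom_comp, h1, MonoidAlgebra.mapDomainOfBialgHom_id]
  · rw [← MonoidAlgebra.mapDomainOfBialgHom_comp, h2, MonoidAlgebra.mapDomainOfBialgHom_id]

/-- The type of a diagonalisable group over a nontrivial ring is unique. -/
lemma mulEquiv_of_bialgEquiv {T : Type u} [CommRing T] [Nontrivial T] {M : Type v} {N : Type w}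
    [CommGroup M] [CommGroup N]
    (e : MonoidAlgebra T M ≃ₐc[T] MonoidAlgebra T N) : Nonempty (M ≃* N) := by
  obtain ⟨𝔪, h𝔪⟩ := Ideal.exists_maximal T
  letI : Field (T ⧸ 𝔪) := Ideal.Quotient.field 𝔪
  exact mulEquiv_of_bialgEquiv_field
    ((scalarTensorBialgEquiv' T (T ⧸ 𝔪) M).symm.trans
      ((baseChangeBialgEquiv' (T ⧸ 𝔪) e).trans (scalarTensorBialgEquiv' T (T ⧸ 𝔪) N)))

end Types

section Torus

variable {R : Type u} [CommRing R] {A : Type u} [CommRing A] [HopfAlgebra R A]

/-- If `A` is split of type `M` by a faithfully flat cover, and some base change of `A` to a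
nontrivial ring is a split torus of rank `n`, then `A` is a torus. -/
theorem isTorus_of_common_chart
    (R' : Type u) [CommRing R'] [Algebra R R'] [Module.FaithfullyFlat R R']
    {M : Type u} [CommGroup M] (e : R' ⊗[R] A ≃ₐc[R'] MonoidAlgebra R' M)
    {Q Qf B' : Type u} [CommRing Q] [Algebra R Q] [CommRing Qf] [Algebra Q Qf] [CommRing B']
    [Algebra Qf B'] [Nontrivial Qf] (hffB' : Module.FaithfullyFlat Qf B')
    (n : ℕ) (ε : B' ⊗[Qf] (Qf ⊗[Q] (Q ⊗[R] A)) ≃ₐc[B']
      MonoidAlgebra B' (Multiplicative (Fin n → ℤ))) :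
    IsTorus R A := by
  haveI := hffB'
  haveI : Nontrivial B' := (FaithfulSMul.algebraMap_injective Qf B').nontrivial
  letI a1 : Algebra Q B' := ((algebraMap Qf B').comp (algebraMap Q Qf)).toAlgebra
  haveI t1 : IsScalarTower Q Qf B' := IsScalarTower.of_algebraMap_eq' rfl
  letI a2 : Algebra R B' := ((algebraMap Q B').comp (algebraMap R Q)).toAlgebra
  haveI t2 : IsScalarTower R Q B' := IsScalarTower.of_algebraMap_eq' rfl
  have d1 : IsDiagOf B' (B' ⊗[Qf] (Qf ⊗[Q] (Q ⊗[R] A))) (Multiplicative (Fin n → ℤ)) := ⟨ε⟩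
  have d2 : IsDiagOf B' (B' ⊗[Q] (Q ⊗[R] A)) (Multiplicative (Fin n → ℤ)) :=
    IsDiagOf.of_tower (R := Q) Qf B' d1
  have d3 : IsDiagOf B' (B' ⊗[R] A) (Multiplicative (Fin n → ℤ)) :=
    IsDiagOf.of_tower (R := R) Q B' d2
  have d4 : IsDiagOf (R' ⊗[R] B') ((R' ⊗[R] B') ⊗[R] A) (Multiplicative (Fin n → ℤ)) :=
    isDiagOf_transfer (Algebra.TensorProduct.includeRight : B' →ₐ[R] R' ⊗[R] B').toRingHom
      (fun r => AlgHom.commutes _ r) d3
  have d5 : IsDiagOf (R' ⊗[R] B') ((R' ⊗[R] B') ⊗[R] A) M :=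
    isDiagOf_transfer (Algebra.TensorProduct.includeLeft : R' →ₐ[R] R' ⊗[R] B').toRingHom
      (fun r => AlgHom.commutes _ r) ⟨e⟩
  obtain ⟨e4⟩ := d4
  obtain ⟨e5⟩ := d5
  obtain ⟨μ⟩ := mulEquiv_of_bialgEquiv (e5.symm.trans e4)
  exact isTorus_of_ff_chart R' n ⟨e.trans (MonoidAlgebra.domCongrBialgEquiv R' R' μ)⟩

/-- An isotrivial group which is a torus modulo an ideal of the Jacobson radical is a torus. -/
theorem isTorus_of_isIsotrivial_of_mod (I : Ideal R) (hI : I ≤ Ideal.jacobson ⊥)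
    (h : IsIsotrivial R A) (h0 : IsTorus (R ⧸ I) ((R ⧸ I) ⊗[R] A)) : IsTorus R A := by
  rcases subsingleton_or_nontrivial R with hR | hR
  · refine ⟨∅, ?_, fun f hf => absurd hf (Set.notMem_empty f)⟩
    rw [Ideal.eq_top_iff_one, Subsingleton.elim (1 : R) 0]
    exact Ideal.zero_mem _
  · obtain ⟨R', _, _, -, -, hff, ⟨M, _, ⟨e⟩⟩⟩ := h
    haveI := hff
    have hIne : I ≠ ⊤ := by
      intro htop
      have h1 : (1 : R) ∈ Ideal.jacobson (⊥ : Ideal R) := hI (htop ▸ Submodule.mem_top)
      have h2 := Ideal.mem_jacobson_bot.mp h1 (-1)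
      rw [one_mul, neg_add_cancel] at h2
      exact not_isUnit_zero h2
    haveI : Nontrivial (R ⧸ I) := Ideal.Quotient.nontrivial_iff.mpr hIne
    obtain ⟨s, hs, hsT⟩ := h0
    obtain ⟨𝔫, h𝔫⟩ := Ideal.exists_maximal (R ⧸ I)
    obtain ⟨f, hfs, hf𝔫⟩ : ∃ f ∈ s, f ∉ 𝔫 := by
      by_contra hcon
      push Not at hcon
      have hle : Ideal.span s ≤ 𝔫 := Ideal.span_le.mpr hcon
      rw [hs] at hle
      exact h𝔫.ne_top (top_le_iff.mp hle)
    haveI : Nontrivial (Localization.Away f) := by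
      letI : Field ((R ⧸ I) ⧸ 𝔫) := Ideal.Quotient.field 𝔫
      have hu : IsUnit (Ideal.Quotient.mk 𝔫 f) := by
        rw [isUnit_iff_ne_zero]
        intro h0'
        exact hf𝔫 (Ideal.Quotient.eq_zero_iff_mem.mp h0')
      exact (IsLocalization.Away.lift (S := Localization.Away f) f hu).domain_nontrivial
    obtain ⟨B', i1, i2, hffB', n, ⟨ε⟩⟩ := hsT f hfs
    exact @isTorus_of_common_chart R _ A _ _ R' _ _ _ M _ e (R ⧸ I) (Localization.Away f) B'
      _ _ _ _ i1 i2 _ hffB' n ε

end Torus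

end Groth.Agent.Lib.Helper6.FibConn
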